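import Groth.Agent.RedOpenLib.Semisimple
import Groth.Agent.GModLib.ReductiveFibres
import Groth.Agent.AlgSpLib.EtLocalInst

/-!
# The reductive and semisimple loci are open
-/

set_option autoImplicit false
set_option linter.style.haveILetI false
set_option backward.isDefEq.respectTransparency false
set_option backward.isDefEq.respectTransparency.types false

universe u

open CategoryTheory CategoryTheory.Limits MonoidalCategory CartesianMonoidalCategory MonObj GrpObj AlgebraicGeometry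

namespace Groth.Agent.RedOpenLib

open GrpSchLib GrpSchLib.AffineHopf GModLib

/-- Reductivity over an algebraically closed field is invariant under isomorphisms. -/
theorem isReductiveOver_of_iso {k : Type u} [Field k] [IsAlgClosed k] {G H : Over (Spec (CommRingCat.of k))}
    [GrpObj G] [GrpObj H] (e : Grp.mk G ≅ Grp.mk H) (h : Red.IsReductiveOver k G) : Red.IsReductiveOver k H := by
  obtain ⟨ha, hs, hc, hU⟩ := h
  haveI := ha; haveI := hs; haveI := hc
  let f : H ⟶ G := e.inv.hom.hom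
  haveI : IsMonHom f := e.inv.hom.isMonHom_hom
  haveI : IsIso f := ((Grp.forget _).mapIso e).isIso_inv
  haveI : IsIso f.left := inferInstanceAs (IsIso ((Over.forget _).map f))
  refine ⟨isAffine_of_isAffineHom f.left, ?_, ?_, fun U _ i _ hi hUs hUc hn hno => ?_⟩
  · rw [← Over.w f]; infer_instance
  · exact (inv f.left).homeomorph.surjective.connectedSpace (inv f.left).continuous
  · haveI := hi
    haveI : IsClosedImmersion (i ≫ f).left := by rw [Over.comp_left]; infer_instance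
    refine hU U (i ≫ f) ‹_› hUs hUc ?_ hno
    intro T g n
    obtain ⟨n', hn'⟩ := hn T (g ≫ inv f) n
    refine ⟨n', ?_⟩
    have e1 := congrArg (fun x : T ⟶ H => x ≫ f) hn'
    simp only [MonObj.mul_comp, GrpObj.inv_comp, Category.assoc, IsIso.inv_hom_id, Category.comp_id] at e1
    exact e1

/-- Semisimplicity over an algebraically closed field is invariant under isomorphisms. -/
theorem isSemisimpleOver_of_iso {k : Type u} [Field k] [IsAlgClosed k] {G H : Over (Spec (CommRingCat.of k))}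
    [GrpObj G] [GrpObj H] (e : Grp.mk G ≅ Grp.mk H) (h : Red.IsSemisimpleOver k G) : Red.IsSemisimpleOver k H := by
  obtain ⟨hred, hT⟩ := h
  let f : H ⟶ G := e.inv.hom.hom
  haveI : IsMonHom f := e.inv.hom.isMonHom_hom
  haveI : IsIso f := ((Grp.forget _).mapIso e).isIso_inv
  haveI : IsIso f.left := inferInstanceAs (IsIso ((Over.forget _).map f))
  refine ⟨isReductiveOver_of_iso e hred, fun T _ i _ hi hn hTt => ?_⟩
  haveI := hi
  haveI : IsClosedImmersion (i ≫ f).left := by rw [Over.comp_left]; infer_instance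
  refine hT T (i ≫ f) ‹_› ?_ hTt
  intro X g n
  obtain ⟨n', hn'⟩ := hn X (g ≫ inv f) n
  refine ⟨n', ?_⟩
  have e1 := congrArg (fun x : X ⟶ H => x ≫ f) hn'
  simp only [MonObj.mul_comp, GrpObj.inv_comp, Category.assoc, IsIso.inv_hom_id, Category.comp_id] at e1
  exact e1

/-- Geometric points lift along étale morphisms through any point above. -/
theorem exists_geomPt_lift_etale {Y S : Scheme.{u}} (v : Y ⟶ S) [Etale v] {K : Type u} [Field K] [IsAlgClosed K]
    (a : Spec (CommRingCat.of K) ⟶ S) (y : Y) (hy : v y = a (IsLocalRing.closedPoint K)) :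
    ∃ τ : Spec (CommRingCat.of K) ⟶ Y, τ ≫ v = a ∧ τ (IsLocalRing.closedPoint K) = y := by
  let X : Over (Spec (CommRingCat.of K)) := Over.mk (pullback.snd v a)
  haveI : Etale X.hom := inferInstanceAs (Etale (pullback.snd v a))
  obtain ⟨z, hz1, -⟩ := Scheme.Pullback.exists_preimage_pullback (f := v) (g := a) y (IsLocalRing.closedPoint K) hy
  have hd : _root_.IsDiscrete (X.hom ⁻¹' {IsLocalRing.closedPoint K}) := Scheme.Hom.isDiscrete_preimage_singleton _ _
  have huniv : X.hom ⁻¹' {IsLocalRing.closedPoint K} = Set.univ :=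
    Set.eq_univ_of_forall fun x => Subsingleton.elim (α := PrimeSpectrum K) _ _
  rw [huniv] at hd
  haveI : DiscreteTopology X.left := isDiscrete_univ_iff.mp hd
  obtain ⟨p, hp⟩ := exists_point_mem (D := X) (U := ({z} : Set X.left)) (isOpen_discrete _) (Set.singleton_nonempty _)
  refine ⟨p.left ≫ pullback.fst v a, ?_, ?_⟩
  · rw [Category.assoc, pullback.condition, ← Category.assoc]
    have h1 : p.left ≫ pullback.snd v a = 𝟙 (Spec (CommRingCat.of K)) := (Over.w p).trans (Spec.map_id _)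
    rw [h1]
    exact Category.id_comp _
  · show (p.left ≫ pullback.fst v a) _ = y
    rw [Scheme.Hom.comp_apply, Set.mem_singleton_iff.mp hp]
    exact hz1

variable {S : Scheme.{u}} {G : Over S} [GrpObj G] [Smooth G.hom] [IsAffineHom G.hom]

/-- Geometric fibres at arbitrary geometric points are connected. -/
theorem connectedSpace_bc_point (hconn : ∀ s : S, _root_.IsConnected (G.hom.base ⁻¹' {s})) {K : Type u} [Field K]
    [IsAlgClosed K] (a : Spec (CommRingCat.of K) ⟶ S) : ConnectedSpace (Red.bc a G).left := by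
  have h := GrpSchLib.GeomConnFibre.connected_pullback G.hom (fun s => connectedSpace_geomFibre hconn s)
    ((Scheme.SpecToEquivOfField K S a).2.hom)
  have ha : Spec.map (Scheme.SpecToEquivOfField K S a).2 ≫ S.fromSpecResidueField _ = a :=
    (Scheme.SpecToEquivOfField K S).left_inv a
  rw [CommRingCat.ofHom_hom, ha] at h
  exact h

set_option maxHeartbeats 1000000 in
/-- Near a point with a self-centralizing torus in its geometric fibre, the loci are open. -/
theorem exists_open_loci (hconn : ∀ s : S, _root_.IsConnected (G.hom.base ⁻¹' {s})) {k₀ : Type u} [Field k₀]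
    [IsAlgClosed k₀] (a₀ : Spec (CommRingCat.of k₀) ⟶ S)
    {T₀ : Over (Spec (CommRingCat.of k₀))} [GrpObj T₀]
    (i₀ : T₀ ⟶ Red.bc a₀ G) (hT₀ : Red.IsTorus T₀) (hi₀ : Red.IsCentralizerOf i₀ i₀) :
    ∃ V O₁ O₂ : Set S, IsOpen V ∧ a₀ (IsLocalRing.closedPoint k₀) ∈ V ∧ IsOpen O₁ ∧ IsOpen O₂ ∧
      ∀ (K : Type u) [Field K] [IsAlgClosed K] (a : Spec (CommRingCat.of K) ⟶ S),
        a (IsLocalRing.closedPoint K) ∈ V →
          (a (IsLocalRing.closedPoint K) ∈ O₁ ↔ Red.IsReductiveOver K (Red.bc a G)) ∧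
          (a (IsLocalRing.closedPoint K) ∈ O₂ ↔ Red.IsSemisimpleOver K (Red.bc a G)) := by
  obtain ⟨B, _, v, r, T, _, t, hv, hs, ⟨eT⟩, ht, -⟩ :=
    exists_etale_split_selfCentralizing hconn a₀ i₀ hT₀ hi₀
  haveI := hv; haveI := ht.1; haveI := ht.2.1
  let GB := Red.bc v G
  haveI : Smooth GB.hom := inferInstanceAs (Smooth (pullback.snd G.hom v))
  haveI : IsAffineHom GB.hom := MorphismProperty.pullback_snd G.hom v ‹IsAffineHom G.hom›
  haveI : IsAffine GB.left := isAffine_of_isAffineHom GB.hom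
  obtain ⟨A, _, _, ⟨e⟩⟩ := exists_hopf GB
  haveI : IsMonHom e.hom.hom.hom := e.hom.hom.isMonHom_hom
  haveI : IsMonHom e.inv.hom.hom := e.inv.hom.isMonHom_hom
  let ε : GB ≅ sp B A := ((Grp.forget _).mapIso e).symm
  haveI : IsMonHom ε.hom := ‹IsMonHom e.inv.hom.hom›
  haveI : IsIso e.hom.hom.hom.left :=
    inferInstanceAs (IsIso ((Over.forget _).map ((Grp.forget _).mapIso e).hom))
  haveI : Smooth (sp B A).hom := by rw [← Over.w e.hom.hom.hom]; infer_instance
  haveI : Algebra.Smooth B A := RingHom.smooth_algebraMap.mp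
    ((HasRingHomProperty.Spec_iff (P := @Smooth)).mp ‹Smooth (sp B A).hom›)
  obtain ⟨d⟩ := nonempty_DS_iso B (Fin r → ℤ)
  let δ : sp B (MonoidAlgebra B (Multiplicative (Fin r → ℤ))) ≅ T := (Grp.forget _).mapIso (d ≪≫ eT.symm)
  haveI : IsMonHom δ.hom := (d ≪≫ eT.symm).hom.hom.isMonHom_hom
  haveI : IsMonHom (δ.hom ≫ t ≫ ε.hom) := inferInstance
  have htA : Red.IsCentralizerOf (δ.hom ≫ t ≫ ε.hom) (δ.hom ≫ t ≫ ε.hom) :=
    isCentralizerOf_of_iso δ δ ε rfl rfl ht
  obtain ⟨φ, hφ⟩ := exists_bialgHom (δ.hom ≫ t ≫ ε.hom)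
  haveI := htA.2.1
  haveI hm : IsMonHom (spMap (φ : A →ₐ[B] MonoidAlgebra B (Multiplicative (Fin r → ℤ)))) := hφ ▸ htA.1
  haveI : Mono (spMap (φ : A →ₐ[B] MonoidAlgebra B (Multiplicative (Fin r → ℤ)))) := hφ ▸ htA.2.1
  haveI : IsAffineHom (sp B A).hom := inferInstanceAs (IsAffineHom (Spec.map (CommRingCat.ofHom (algebraMap B A))))
  have hsurj : Function.Surjective φ := by
    haveI := MultConjLib.isClosedImmersion_of_mono
      (MultConjLib.isLocDS_of_multTypeFT (isMultTypeFT_of_iso_DS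
        (Module.Finite.iff_addGroup_fg.mp inferInstance : AddGroup.FG (Fin r → ℤ)) d))
      (spMap (φ : A →ₐ[B] MonoidAlgebra B (Multiplicative (Fin r → ℤ))))
    haveI : IsAffine (sp B A).left := isAffine_Spec _
    obtain ⟨-, h2⟩ := IsClosedImmersion.isAffine_surjective_of_isAffine
      (spMap (φ : A →ₐ[B] MonoidAlgebra B (Multiplicative (Fin r → ℤ)))).left
    intro y
    obtain ⟨x, hx⟩ := h2 ((Scheme.ΓSpecIso (CommRingCat.of (MonoidAlgebra B (Multiplicative (Fin r → ℤ))))).inv y)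
    refine ⟨(Scheme.ΓSpecIso (CommRingCat.of A)).hom x, ?_⟩
    have h3 := ConcreteCategory.congr_hom
      (Scheme.ΓSpecIso_naturality (CommRingCat.ofHom (φ : A →ₐ[B] MonoidAlgebra B (Multiplicative (Fin r → ℤ))).toRingHom)) x
    refine Eq.trans h3.symm ?_
    show (Scheme.ΓSpecIso _).hom ((spMap (φ : A →ₐ[B] MonoidAlgebra B (Multiplicative (Fin r → ℤ)))).left.appTop x) = y
    rw [hx]
    exact (Scheme.ΓSpecIso (CommRingCat.of (MonoidAlgebra B (Multiplicative (Fin r → ℤ))))).commRingCatIsoToRingEquiv.apply_symm_apply y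
  have ht' : Red.IsCentralizerOf (spMap (φ : A →ₐ[B] MonoidAlgebra B (Multiplicative (Fin r → ℤ))))
      (spMap (φ : A →ₐ[B] MonoidAlgebra B (Multiplicative (Fin r → ℤ)))) := hφ ▸ htA
  obtain ⟨W₁, hW₁, h₁⟩ := exists_open_reductive φ ht' hsurj
  obtain ⟨W₂, hW₂, h₂⟩ := exists_open_semisimple φ ht' hsurj
  let v' : PrimeSpectrum B → S := v
  have key : ∀ (K : Type u) [Field K] [IsAlgClosed K] (a : Spec (CommRingCat.of K) ⟶ S) (y : PrimeSpectrum B),
      v' y = a (IsLocalRing.closedPoint K) →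
      (y ∈ W₁ ↔ Red.IsReductiveOver K (Red.bc a G)) ∧ (y ∈ W₂ ↔ Red.IsSemisimpleOver K (Red.bc a G)) := by
    intro K _ _ a y hya
    obtain ⟨τ, hτ, hτy⟩ := exists_geomPt_lift_etale v a y hya
    obtain ⟨f, rfl⟩ := Spec.map_surjective τ
    letI : Algebra B K := f.hom.toAlgebra
    obtain ⟨e₁⟩ := MultTypeBC.bc_congr hτ.symm G
    obtain ⟨e₂⟩ := MultTypeBC.bc_bc (Spec.map f) v G
    obtain ⟨e₃⟩ := MultTypeBC.bc_iso (Spec.map f) e.symm
    let eK : Grp.mk (Red.bc a G) ≅ Grp.mk (fib B A K) := e₁ ≪≫ e₂.symm ≪≫ e₃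
    haveI : IsIso (((Grp.forget _).mapIso eK).hom.left) :=
      inferInstanceAs (IsIso ((Over.forget _).map ((Grp.forget _).mapIso eK).hom))
    haveI : ConnectedSpace ((Grp.forget _).obj (Grp.mk (Red.bc a G))).left := connectedSpace_bc_point hconn a
    haveI : ConnectedSpace (fib B A K).left :=
      (((Grp.forget _).mapIso eK).hom.left).homeomorph.surjective.connectedSpace (((Grp.forget _).mapIso eK).hom.left).continuous
    have hy : (⟨RingHom.ker (algebraMap B K), RingHom.ker_isPrime _⟩ : PrimeSpectrum B) = y := by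
      refine Eq.trans ?_ hτy
      refine PrimeSpectrum.ext (Ideal.ext fun x => ?_)
      show f.hom x = 0 ↔ f.hom x ∈ IsLocalRing.maximalIdeal K
      exact ⟨fun h => h ▸ zero_mem _, fun h => by_contra fun hne => (IsLocalRing.mem_maximalIdeal _).mp h (IsUnit.mk0 _ hne)⟩
    have k₁ := h₁ K
    have k₂ := h₂ K
    rw [hy] at k₁ k₂
    exact ⟨k₁.trans ⟨isReductiveOver_of_iso eK.symm, isReductiveOver_of_iso eK⟩,
      k₂.trans ⟨isSemisimpleOver_of_iso eK.symm, isSemisimpleOver_of_iso eK⟩⟩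
  refine ⟨Set.range v', v' '' W₁, v' '' W₂, v.isOpenMap.isOpen_range, hs, v.isOpenMap _ hW₁, v.isOpenMap _ hW₂,
    fun K _ _ a ha => ?_⟩
  obtain ⟨y, hy⟩ := ha
  exact ⟨⟨fun ⟨y', hy', e'⟩ => (key K a y' e').1.mp hy', fun h => ⟨y, (key K a y hy).1.mpr h, hy⟩⟩,
    ⟨fun ⟨y', hy', e'⟩ => (key K a y' e').2.mp hy', fun h => ⟨y, (key K a y hy).2.mpr h, hy⟩⟩⟩

/-- The reductive and semisimple loci of a smooth affine group with connected fibres are open. -/
theorem isOpen_loci (hconn : ∀ s : S, _root_.IsConnected (G.hom.base ⁻¹' {s})) :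
    IsOpen {s : S | Red.IsReductiveOver (AlgebraicClosure (S.residueField s)) (Red.geomFibre s G)} ∧
      IsOpen {s : S | Red.IsSemisimpleOver (AlgebraicClosure (S.residueField s)) (Red.geomFibre s G)} := by
  have tor : ∀ s : S, Red.IsReductiveOver (AlgebraicClosure (S.residueField s)) (Red.geomFibre s G) →
      ∃ (T : Over (Spec (CommRingCat.of (AlgebraicClosure (S.residueField s))))) (_ : GrpObj T)
        (i : T ⟶ Red.bc (Red.geomPt s) G), Red.IsTorus T ∧ Red.IsCentralizerOf i i := by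
    rintro s ⟨ha, hs, hn, hred⟩
    haveI : IsAffine (Red.bc (Red.geomPt s) G).left := ha
    haveI : Smooth (Red.bc (Red.geomPt s) G).hom := hs
    haveI : ConnectedSpace (Red.bc (Red.geomPt s) G).left := hn
    haveI : QuasiCompact (Red.bc (Red.geomPt s) G).hom := inferInstance
    obtain ⟨T, _, i, hi, -⟩ := exists_maxTorus_all (Red.bc (Red.geomPt s) G)
    haveI := hi.1; haveI := hi.2.1
    exact ⟨T, inferInstance, i, hi.2.2.1,
      isCentralizerOf_self_of_reductive (G := Red.bc (Red.geomPt s) G) i hi ⟨ha, hs, hn, hred⟩⟩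
  have hpt : ∀ s : S, (Red.geomPt s) (IsLocalRing.closedPoint _) = s := fun s => Scheme.fromSpecResidueField_apply s _
  constructor <;> rw [isOpen_iff_forall_mem_open] <;> intro s hs
  · obtain ⟨T, _, i, hT, hi⟩ := tor s hs
    obtain ⟨V, O₁, O₂, hV, hsV, hO₁, -, h⟩ := exists_open_loci hconn (Red.geomPt s) i hT hi
    refine ⟨O₁ ∩ V, fun x hx => ?_, hO₁.inter hV, (hpt s) ▸ (h _ _ hsV).1.mpr hs, (hpt s) ▸ hsV⟩
    have hx' : (Red.geomPt x) (IsLocalRing.closedPoint _) ∈ V := (hpt x).symm ▸ hx.2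
    exact (h _ _ hx').1.mp ((hpt x).symm ▸ hx.1)
  · obtain ⟨T, _, i, hT, hi⟩ := tor s hs.1
    obtain ⟨V, O₁, O₂, hV, hsV, -, hO₂, h⟩ := exists_open_loci hconn (Red.geomPt s) i hT hi
    refine ⟨O₂ ∩ V, fun x hx => ?_, hO₂.inter hV, (hpt s) ▸ (h _ _ hsV).2.mpr hs, (hpt s) ▸ hsV⟩
    have hx' : (Red.geomPt x) (IsLocalRing.closedPoint _) ∈ V := (hpt x).symm ▸ hx.2
    exact (h _ _ hx').2.mp ((hpt x).symm ▸ hx.1)

/-- Reductivity and semisimplicity of a geometric fibre only depend on the point below. -/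
theorem isReductiveOver_bc_iff (hconn : ∀ s : S, _root_.IsConnected (G.hom.base ⁻¹' {s})) {k₁ k₂ : Type u} [Field k₁]
    [IsAlgClosed k₁] [Field k₂] [IsAlgClosed k₂] (a₁ : Spec (CommRingCat.of k₁) ⟶ S)
    (a₂ : Spec (CommRingCat.of k₂) ⟶ S) (hs : a₁ (IsLocalRing.closedPoint k₁) = a₂ (IsLocalRing.closedPoint k₂)) :
    (Red.IsReductiveOver k₁ (Red.bc a₁ G) → Red.IsReductiveOver k₂ (Red.bc a₂ G)) ∧
      (Red.IsSemisimpleOver k₁ (Red.bc a₁ G) → Red.IsSemisimpleOver k₂ (Red.bc a₂ G)) := by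
  have tor : Red.IsReductiveOver k₁ (Red.bc a₁ G) → ∃ (T : Over (Spec (CommRingCat.of k₁))) (_ : GrpObj T)
      (i : T ⟶ Red.bc a₁ G), Red.IsTorus T ∧ Red.IsCentralizerOf i i := by
    rintro ⟨ha, hsm, hn, hred⟩
    haveI := ha; haveI := hsm; haveI := hn
    haveI : QuasiCompact (Red.bc a₁ G).hom := inferInstance
    obtain ⟨T, _, i, hi, -⟩ := exists_maxTorus_all (Red.bc a₁ G)
    haveI := hi.1; haveI := hi.2.1
    exact ⟨T, inferInstance, i, hi.2.2.1, isCentralizerOf_self_of_reductive i hi ⟨ha, hsm, hn, hred⟩⟩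
  constructor
  · intro h
    obtain ⟨T, _, i, hT, hi⟩ := tor h
    obtain ⟨V, O₁, O₂, -, hsV, -, -, hh⟩ := exists_open_loci hconn a₁ i hT hi
    exact (hh k₂ a₂ (hs ▸ hsV)).1.mp (hs ▸ (hh k₁ a₁ hsV).1.mpr h)
  · intro h
    obtain ⟨T, _, i, hT, hi⟩ := tor h.1
    obtain ⟨V, O₁, O₂, -, hsV, -, -, hh⟩ := exists_open_loci hconn a₁ i hT hi
    exact (hh k₂ a₂ (hs ▸ hsV)).2.mp (hs ▸ (hh k₁ a₁ hsV).2.mpr h)

end Groth.Agent.RedOpenLib
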