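import Groth.Agent.RedOpenLib.SmoothNbhd
import Groth.Agent.RedOpenLib.Global
import Groth.Agent.GModLib.CartanTorusDescent

/-!
# Reductive neighbourhoods with split maximal tori on étale covers
-/

set_option autoImplicit false
set_option linter.style.haveILetI false
set_option backward.isDefEq.respectTransparency false
set_option backward.isDefEq.respectTransparency.types false

universe u

open CategoryTheory CategoryTheory.Limits MonoidalCategory CartesianMonoidalCategory MonObj GrpObj AlgebraicGeometry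

namespace Groth.Agent.RedOpenLib

open GrpSchLib GrpSchLib.AffineHopf GModLib

variable {S : Scheme.{u}}

/-- The geometric point at a point lies over it. -/
theorem geomPt_closedPoint (s : S) : (Red.geomPt s) (IsLocalRing.closedPoint _) = s :=
  Scheme.fromSpecResidueField_apply s _

/-- Smoothness passes to isomorphic objects over the base. -/
theorem smooth_of_iso {X Y : Over S} (e : X ≅ Y) [Smooth X.hom] : Smooth Y.hom := by
  haveI : IsIso e.inv.left := inferInstanceAs (IsIso ((Over.forget _).map e.inv))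
  rw [← Over.w e.inv]
  infer_instance

/-- A reductive group stays reductive over a scheme mapping to the base. -/
theorem isReductive_bc {S' : Scheme.{u}} (u : S' ⟶ S) {G : Over S} [GrpObj G] (hG : Red.IsReductive G) :
    Red.IsReductive (Red.bc u G) := by
  haveI := hG.1; haveI := hG.2.1
  refine ⟨MorphismProperty.pullback_snd G.hom u hG.1, MorphismProperty.pullback_snd G.hom u hG.2.1, fun s => ?_⟩
  obtain ⟨e⟩ := MultTypeBC.bc_bc (Red.geomPt s) u G
  refine isReductiveOver_of_iso e.symm ?_
  have hp := geomPt_closedPoint ((Red.geomPt s ≫ u) (IsLocalRing.closedPoint _))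
  exact (isReductiveOver_bc_iff (fun t => isConnected_fibre_of_isReductive hG t) _ (Red.geomPt s ≫ u) hp).1 (hG.2.2 _)

/-- Reductivity of a group is invariant under isomorphisms. -/
theorem isReductive_of_iso {G H : Over S} [GrpObj G] [GrpObj H] (e : Grp.mk G ≅ Grp.mk H) (hG : Red.IsReductive G) :
    Red.IsReductive H := by
  haveI := hG.1; haveI := hG.2.1
  let e' : G ≅ H := (Grp.forget _).mapIso e
  haveI : IsIso e'.inv.left := inferInstanceAs (IsIso ((Over.forget _).map e'.inv))
  refine ⟨by rw [← Over.w e'.inv]; infer_instance, smooth_of_iso e', fun s => ?_⟩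
  obtain ⟨e''⟩ := MultTypeBC.bc_iso (Red.geomPt s) e
  exact isReductiveOver_of_iso e'' (hG.2.2 s)

/-- A flat affine group of finite presentation with a reductive fibre is reductive over an affine neighbourhood. -/
theorem exists_reductive_affine (G : Over S) [GrpObj G] [IsAffineHom G.hom] [LocallyOfFinitePresentation G.hom]
    [Flat G.hom] (hconn : ∀ s : S, _root_.IsConnected (G.hom.base ⁻¹' {s})) (s₀ : S)
    (h₀ : Red.IsReductiveOver (AlgebraicClosure (S.residueField s₀)) (Red.geomFibre s₀ G)) :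
    ∃ (A : Type u) (_ : CommRing A) (u : Spec (CommRingCat.of A) ⟶ S), IsOpenImmersion u ∧ s₀ ∈ Set.range u ∧
      Red.IsReductive (Red.bc u G) := by
  haveI : Smooth (pullback.snd G.hom (Red.geomPt s₀)) := h₀.2.1
  obtain ⟨U, hs₀U, hUsm⟩ := exists_smooth_nbhd G s₀
  haveI := hUsm
  let GU := Red.bc U.ι G
  haveI : IsAffineHom GU.hom := MorphismProperty.pullback_snd G.hom U.ι ‹IsAffineHom G.hom›
  have hconnU : ∀ s, _root_.IsConnected (GU.hom.base ⁻¹' {s}) := isConnected_fibres_bc hconn U.ι
  let u₀ : (U : Scheme.{u}) := ⟨s₀, hs₀U⟩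
  obtain ⟨τ, hτ, hτy⟩ := exists_geomPt_lift_etale U.ι (Red.geomPt s₀) u₀ (Scheme.fromSpecResidueField_apply s₀ _).symm
  have hred₀ : Red.IsReductiveOver _ (Red.bc τ GU) := by
    obtain ⟨e₁⟩ := MultTypeBC.bc_congr hτ.symm G
    obtain ⟨e₂⟩ := MultTypeBC.bc_bc τ U.ι G
    exact isReductiveOver_of_iso (e₁ ≪≫ e₂.symm) h₀
  let O : Set (U : Scheme.{u}) :=
    {s | Red.IsReductiveOver (AlgebraicClosure ((U : Scheme.{u}).residueField s)) (Red.geomFibre s GU)}
  have hO : IsOpen O := (isOpen_loci (G := GU) hconnU).1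
  have hu₀ : u₀ ∈ O := (isReductiveOver_bc_iff hconnU τ (Red.geomPt u₀)
    (hτy.trans (Scheme.fromSpecResidueField_apply _ _).symm)).1 hred₀
  obtain ⟨W, hW, hu₀W, hWO⟩ := exists_isAffineOpen_mem_and_subset (U := (⟨O, hO⟩ : (U : Scheme.{u}).Opens)) hu₀
  refine ⟨Γ((U : Scheme.{u}), W), inferInstance, hW.fromSpec ≫ U.ι, inferInstance, ?_, ?_⟩
  · obtain ⟨y, hy⟩ : u₀ ∈ Set.range hW.fromSpec := by rw [hW.range_fromSpec]; exact hu₀W
    exact ⟨y, (Scheme.Hom.comp_apply hW.fromSpec U.ι y).trans (congrArg U.ι hy)⟩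
  · obtain ⟨e⟩ := MultTypeBC.bc_bc hW.fromSpec U.ι G
    refine isReductive_of_iso e ⟨MorphismProperty.pullback_snd GU.hom hW.fromSpec ‹IsAffineHom GU.hom›,
      inferInstanceAs (Smooth (pullback.snd GU.hom hW.fromSpec)), fun s => ?_⟩
    obtain ⟨e'⟩ := MultTypeBC.bc_bc (Red.geomPt s) hW.fromSpec GU
    refine isReductiveOver_of_iso e'.symm ?_
    have hp := geomPt_closedPoint ((Red.geomPt s ≫ hW.fromSpec) (IsLocalRing.closedPoint _))
    have hmem : (Red.geomPt s ≫ hW.fromSpec) (IsLocalRing.closedPoint _) ∈ W := by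
      rw [← SetLike.mem_coe, ← hW.range_fromSpec, Scheme.Hom.comp_apply]
      exact Set.mem_range_self _
    exact (isReductiveOver_bc_iff hconnU _ _ hp).1 (hWO hmem)

/-- Over an affine base, an étale map lands onto a basic open of its image by a surjection of spectra. -/
theorem exists_away_surjective {A₁ B : Type u} [CommRing A₁] [CommRing B]
    (v : Spec (CommRingCat.of B) ⟶ Spec (CommRingCat.of A₁)) [Etale v] {y : ↥(Spec (CommRingCat.of A₁))}
    (hy : y ∈ Set.range v) :
    ∃ (A B' : Type u) (_ : CommRing A) (_ : CommRing B') (j : Spec (CommRingCat.of A) ⟶ Spec (CommRingCat.of A₁))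
      (q : Spec (CommRingCat.of B') ⟶ Spec (CommRingCat.of B))
      (v' : Spec (CommRingCat.of B') ⟶ Spec (CommRingCat.of A)),
      IsOpenImmersion j ∧ y ∈ Set.range j ∧ Etale v' ∧ Surjective v' ∧ v' ≫ j = q ≫ v := by
  classical
  obtain ⟨_, ⟨g, rfl⟩, hyg, hgv⟩ := PrimeSpectrum.isTopologicalBasis_basic_opens.exists_subset_of_mem_open
    hy (v.isOpenMap.isOpen_range)
  obtain ⟨φ, rfl⟩ := Spec.map_surjective v
  let A := Localization.Away g
  let B' := Localization.Away (φ.hom g)
  let α : A →+* B' := IsLocalization.Away.map A B' φ.hom g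
  let j : Spec (CommRingCat.of A) ⟶ Spec (CommRingCat.of A₁) :=
    Spec.map (CommRingCat.ofHom (algebraMap A₁ A))
  let q : Spec (CommRingCat.of B') ⟶ Spec (CommRingCat.of B) :=
    Spec.map (CommRingCat.ofHom (algebraMap B B'))
  let v' : Spec (CommRingCat.of B') ⟶ Spec (CommRingCat.of A) := Spec.map (CommRingCat.ofHom α)
  haveI : IsOpenImmersion j := IsOpenImmersion.of_isLocalization g
  haveI : IsOpenImmersion q := IsOpenImmersion.of_isLocalization (φ.hom g)
  have hsq : v' ≫ j = q ≫ Spec.map φ := by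
    show Spec.map _ ≫ Spec.map _ = Spec.map _ ≫ Spec.map _
    rw [← Spec.map_comp, ← Spec.map_comp]
    congr 1
    refine CommRingCat.hom_ext ?_
    show α.comp (algebraMap A₁ A) = (algebraMap B B').comp φ.hom
    exact IsLocalization.map_comp (M := Submonoid.powers g) _
  refine ⟨A, B', inferInstance, inferInstance, j, q, v', inferInstance, ?_, ?_, ⟨fun x => ?_⟩, hsq⟩
  · show y ∈ Set.range (PrimeSpectrum.comap (algebraMap A₁ A))
    rw [PrimeSpectrum.localization_away_comap_range A g]
    exact hyg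
  · haveI : Etale (v' ≫ j) := hsq ▸ inferInstance
    exact MorphismProperty.of_postcomp (W := @Etale) (W' := @Etale) v' j inferInstance inferInstance
  · have hjx : j x ∈ (PrimeSpectrum.basicOpen g : Set (PrimeSpectrum A₁)) := by
      rw [← PrimeSpectrum.localization_away_comap_range A g]
      exact ⟨x, rfl⟩
    obtain ⟨z, hz⟩ := hgv hjx
    have hzg : z ∈ Set.range (PrimeSpectrum.comap (algebraMap B B')) := by
      rw [PrimeSpectrum.localization_away_comap_range B' (φ.hom g)]
      intro hm
      have hz' : g ∈ (Spec.map φ z).asIdeal := hm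
      rw [hz] at hz'
      exact hjx hz'
    obtain ⟨z', hz'⟩ := hzg
    refine ⟨z', j.isOpenEmbedding.injective ?_⟩
    rw [← Scheme.Hom.comp_apply, hsq, Scheme.Hom.comp_apply, show q z' = z from hz']
    exact hz

/-- A split self-centralizing torus gives a maximal one after an affine base change and an isomorphism of the group. -/
theorem exists_maximal_split {B B' : Type u} [CommRing B] [CommRing B']
    (q : Spec (CommRingCat.of B') ⟶ Spec (CommRingCat.of B)) {GB : Over (Spec (CommRingCat.of B))}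
    {H : Over (Spec (CommRingCat.of B'))} [GrpObj GB] [GrpObj H] [Smooth GB.hom] [IsAffineHom GB.hom]
    (e : Grp.mk (Red.bc q GB) ≅ Grp.mk H) {r : ℕ} {T : Over (Spec (CommRingCat.of B))} [GrpObj T] (t : T ⟶ GB)
    (hT : Red.IsSplitTorusWith (Fin r → ℤ) T) (ht : Red.IsCentralizerOf t t) :
    ∃ (T' : Over (Spec (CommRingCat.of B'))) (_ : GrpObj T') (i : T' ⟶ H),
      Red.IsMaximalTorus i ∧ Red.IsSplitTorusWith (Fin r → ℤ) T' := by
  haveI := ht.1
  let e' : Red.bc q GB ≅ H := (Grp.forget _).mapIso e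
  haveI : IsMonHom e'.hom := e.hom.hom.isMonHom_hom
  haveI : IsMonHom e'.inv := e.inv.hom.isMonHom_hom
  haveI : Smooth (Red.bc q GB).hom := inferInstanceAs (Smooth (pullback.snd GB.hom q))
  haveI : Smooth H.hom := smooth_of_iso e'
  haveI : IsAffineHom (Red.bc q GB).hom := MorphismProperty.pullback_snd GB.hom q ‹IsAffineHom GB.hom›
  haveI : IsAffineHom H.hom := by
    haveI : IsIso e'.inv.left := inferInstanceAs (IsIso ((Over.forget _).map e'.inv))
    rw [← Over.w e'.inv]; infer_instance
  have hc : Red.IsCentralizerOf ((Over.pullback q).map t ≫ e'.hom) ((Over.pullback q).map t ≫ e'.hom) :=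
    isCentralizerOf_of_iso (Iso.refl _) (Iso.refl _) e'
      (by rw [Iso.refl_hom, Category.id_comp]) (by rw [Iso.refl_hom, Category.id_comp]) (BC.isCentralizerOf_bc q ht)
  exact ⟨Red.bc q T, inferInstance, (Over.pullback q).map t ≫ e'.hom,
    isMaximalTorus_of_isCentralizerOf_self' _ (TorusBasic.isTorus_of_split (TorusBasic.isSplit_bc q hT)) hc,
    TorusBasic.isSplit_bc q hT⟩

end Groth.Agent.RedOpenLib
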