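import Groth.Agent.RedOpenLib.Nbhd
import Groth.Agent.GModLib.MaxTorusBCGeneral
import Groth.Agent.GModLib.FibreHom
import Groth.Agent.GModLib.CartanImageMain
import Groth.Agent.S16774
import Groth.Agent.S9777
import Groth.Agent.S3022

/-!
# The locus of semisimple rank one
-/

set_option autoImplicit false
set_option linter.style.haveILetI false
set_option backward.isDefEq.respectTransparency false
set_option backward.isDefEq.respectTransparency.types false

universe u

open CategoryTheory CategoryTheory.Limits MonoidalCategory CartesianMonoidalCategory MonObj GrpObj AlgebraicGeometry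

namespace Groth.Agent.RedOpenLib

open GrpSchLib GModLib

variable {S : Scheme.{u}}

/-- Iterated fibres of a morphism. -/
theorem fibreIso_natural {U S' : Scheme.{u}} {a : U ⟶ S'} {g : S' ⟶ S} {b : U ⟶ S} (h : a ≫ g = b) {T G : Over S}
    [GrpObj T] [GrpObj G] (i : T ⟶ G) :
    (fibreIso h T).hom ≫ (Over.pullback b).map i = (Over.pullback a).map ((Over.pullback g).map i) ≫ (fibreIso h G).hom := by
  refine bc_hom_ext ?_
  rw [← fibreHom_eq', fibreHom_left_fst, ← fibreHom_id, Over.comp_left]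
  show (_ ≫ pullback.lift _ _ _) ≫ pullback.fst G.hom b = _
  rw [Category.assoc, pullback.lift_fst, ← Category.assoc, fibreHom_left_fst]
  show (pullback.fst (Red.bc g T).hom a ≫ 𝟙 _ ≫ pullback.fst T.hom g) ≫ i.left =
    pullback.fst (Red.bc g T).hom a ≫ pullback.lift _ _ _ ≫ pullback.fst G.hom g
  rw [pullback.lift_fst, Category.id_comp, Category.assoc]

/-- A maximal torus over an open gives maximal tori of the geometric fibres. -/
theorem isMaximalTorus_geomFibre {G T : Over S} [GrpObj G] [GrpObj T] [LocallyOfFiniteType G.hom] [QuasiCompact G.hom]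
    (i : T ⟶ G) [IsMonHom i] (U : S.Opens) (h : Red.IsMaximalTorus ((Over.pullback U.ι).map i)) (x : S) (hx : x ∈ U) :
    Red.IsMaximalTorus ((Over.pullback (Red.geomPt x)).map i) := by
  obtain ⟨τ, hτ, -⟩ := exists_geomPt_lift_etale U.ι (Red.geomPt x) (⟨x, hx⟩ : (U : Scheme.{u}))
    (geomPt_closedPoint x).symm
  haveI : LocallyOfFiniteType (Red.bc U.ι G).hom := inferInstanceAs (LocallyOfFiniteType (pullback.snd G.hom U.ι))
  haveI : QuasiCompact (Red.bc U.ι G).hom := inferInstanceAs (QuasiCompact (pullback.snd G.hom U.ι))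
  have h₁ := isMaximalTorus_of_iso (fibreIso hτ G) _ (isMaximalTorus_bc' _ h τ)
  refine isMaximalTorus_of_iso_source _ h₁ (fibreIso hτ T).symm _ ?_
  rw [Iso.symm_hom, ← fibreIso_natural hτ i, Iso.inv_hom_id_assoc]

/-- The dimension of a geometric fibre is the dimension of the fibre. -/
theorem topologicalKrullDim_geomFibre (X : Over S) [QuasiCompact X.hom] [LocallyOfFiniteType X.hom] (s : S) :
    topologicalKrullDim ↥(Red.geomFibre s X).left = topologicalKrullDim ↥(X.hom.base ⁻¹' {s}) := by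
  let f' := pullback.snd X.hom (Red.geomPt s)
  let y' : ↥(Spec (CommRingCat.of (AlgebraicClosure (S.residueField s)))) := IsLocalRing.closedPoint _
  have h := Groth.Agent.S9777.result X.hom (Red.geomPt s) f' (pullback.fst X.hom (Red.geomPt s))
    (IsPullback.of_hasPullback X.hom (Red.geomPt s)) y'
  rw [geomPt_closedPoint] at h
  rw [(f'.fiberHomeo y').isHomeomorph.topologicalKrullDim_eq, (X.hom.fiberHomeo s).isHomeomorph.topologicalKrullDim_eq] at h
  have huniv : f' ⁻¹' {y'} = Set.univ :=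
    Set.eq_univ_of_forall fun _ => Subsingleton.elim (α := PrimeSpectrum (AlgebraicClosure (S.residueField s))) _ _
  rw [← h]
  let e : ↥(f' ⁻¹' {y'}) ≃ₜ ↥(pullback X.hom (Red.geomPt s)) :=
    (Homeomorph.setCongr huniv).trans (Homeomorph.Set.univ _)
  exact e.isHomeomorph.topologicalKrullDim_eq.symm

/-- The locus where a torus is maximal and the semisimple rank is one is open. -/
theorem isOpen_rankOne (G T : Over S) [GrpObj G] [GrpObj T] [IsAffineHom G.hom] [Smooth G.hom]
    (hconn : ∀ s : S, _root_.IsConnected (G.hom.base ⁻¹' {s})) (i : T ⟶ G) [IsMonHom i] [IsClosedImmersion i.left]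
    (hT : Red.IsTorus T) :
    IsOpen {s : S | Red.IsReductiveOver (AlgebraicClosure (S.residueField s)) (Red.geomFibre s G) ∧
      Red.IsMaximalTorus ((Over.pullback (Red.geomPt s)).map i) ∧
      topologicalKrullDim ↥(Red.geomFibre s G).left = topologicalKrullDim ↥(Red.geomFibre s T).left + 2} := by
  haveI : Smooth T.hom := MultConjLib.smooth_of_isTorus hT
  haveI : IsAffineHom T.hom := by rw [← Over.w i]; infer_instance
  haveI : Mono i := Over.mono_of_mono_left i
  obtain ⟨Z, _, z, hz, -, -⟩ := GrpFieldLib.Jet.exists_centralizer (H := T) i (neutralSet_eq_univ_of_isTorus T hT)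
  obtain ⟨f, hf⟩ := (hz.2.2 T i).mpr fun X' x h => by
    rw [← MonObj.mul_comp, ← MonObj.mul_comp, RankOne.torus_mul_comm hT]
  have hdG := Groth.Agent.S3022.result S G
  have hdT := Groth.Agent.S3022.result S T
  rw [isOpen_iff_forall_mem_open]
  rintro s ⟨hs₁, hs₂, hs₃⟩
  obtain ⟨U, hsU, -, hU⟩ := Groth.Agent.S16774.result (G := G) (T := T) (Z := Z) ‹Smooth G.hom› ‹IsAffineHom G.hom›
    hconn i hT z hz f hf s hs₁ hs₂
  refine ⟨(U : Set S) ∩ {x | Red.IsReductiveOver (AlgebraicClosure (S.residueField x)) (Red.geomFibre x G)} ∩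
      {x | topologicalKrullDim ↥(G.hom.base ⁻¹' {x}) = topologicalKrullDim ↥(G.hom.base ⁻¹' {s})} ∩
      {x | topologicalKrullDim ↥(T.hom.base ⁻¹' {x}) = topologicalKrullDim ↥(T.hom.base ⁻¹' {s})}, ?_,
    ((U.2.inter (isOpen_loci hconn).1).inter (hdG.isOpen_fiber _)).inter (hdT.isOpen_fiber _),
    ⟨⟨⟨hsU, hs₁⟩, rfl⟩, rfl⟩⟩
  rintro x ⟨⟨⟨hxU, hx₁⟩, hxG⟩, hxT⟩
  refine ⟨hx₁, isMaximalTorus_geomFibre i U hU x hxU, ?_⟩
  rw [topologicalKrullDim_geomFibre, topologicalKrullDim_geomFibre] at hs₃ ⊢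
  rw [hxG, hxT]
  exact hs₃

end Groth.Agent.RedOpenLib
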