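import Groth.Agent.DynSm.Kern
import Mathlib.Algebra.DualNumber
import Mathlib.RingTheory.Smooth.Basic
import Mathlib.RingTheory.Kaehler.Basic
import Mathlib.LinearAlgebra.Matrix.ToLin
import Mathlib.Tactic.NoncommRing

/-!
# The adjoint action of an affine smooth group by matrices of functions
-/

set_option autoImplicit false
set_option backward.isDefEq.respectTransparency false
set_option backward.isDefEq.respectTransparency.types false

universe u

open TensorProduct WithConv TrivSqZeroExt
open scoped Matrix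
open scoped Groth.Agent.DynLib

namespace Groth.Agent.RedOpenLib

open DynLib DynSm

variable {R : Type u} [CommRing R] {A : Type u} [CommRing A] [HopfAlgebra R A]
  {R' : Type u} [CommRing R'] [Algebra R R']

/-- Projection of dual numbers to the base. -/
noncomputable abbrev dfst (R R' : Type u) [CommRing R] [CommRing R'] [Algebra R R'] : DualNumber R' →ₐ[R] R' :=
  TrivSqZeroExt.fstHom R R' R'

/-- Inclusion of the base in the dual numbers. -/
noncomputable abbrev dinl (R R' : Type u) [CommRing R] [CommRing R'] [Algebra R R'] : R' →ₐ[R] DualNumber R' :=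
  TrivSqZeroExt.inlAlgHom R R' R'

theorem sqZero_dfst : SqZero (dfst R R') := fun x y hx hy => by
  have hx' : x.fst = 0 := hx
  have hy' : y.fst = 0 := hy
  exact TrivSqZeroExt.ext (by simp [hx', hy']) (by simp [hx', hy'])

/-- The tangent coordinate of a point with values in dual numbers. -/
noncomputable def tng (x : WithConv (A →ₐ[R] DualNumber R')) (a : A) : R' := (x.ofConv a).snd

theorem fst_of_kernel {x : WithConv (A →ₐ[R] DualNumber R')} (hx : post (dfst R R') x = 1) (a : A) :
    (x.ofConv a).fst = algebraMap R R' (Coalgebra.counit (R := R) a) := by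
  have h := DFunLike.congr_fun (congrArg WithConv.ofConv hx) a
  rw [AlgHom.convOne_apply] at h
  exact h

theorem eq_of_tng {x y : WithConv (A →ₐ[R] DualNumber R')} (hx : post (dfst R R') x = 1)
    (hy : post (dfst R R') y = 1) (h : ∀ a, tng x a = tng y a) : x = y := by
  apply WithConv.ofConv_injective
  ext a : 1
  exact TrivSqZeroExt.ext (by rw [fst_of_kernel hx, fst_of_kernel hy]) (h a)

theorem tng_one (a : A) : tng (1 : WithConv (A →ₐ[R] DualNumber R')) a = 0 := by
  rw [tng, AlgHom.convOne_apply]
  simp [TrivSqZeroExt.algebraMap_eq_inl']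

theorem dlt_snd (x : WithConv (A →ₐ[R] DualNumber R')) (a : A) : (dlt x a).snd = tng x a := by
  rw [dlt_apply, tng]
  simp [TrivSqZeroExt.algebraMap_eq_inl']

theorem tng_mul {x y : WithConv (A →ₐ[R] DualNumber R')} (hx : post (dfst R R') x = 1)
    (hy : post (dfst R R') y = 1) (a : A) : tng (x * y) a = tng x a + tng y a := by
  rw [← dlt_snd, ← dlt_snd, ← dlt_snd, dlt_mul sqZero_dfst hx hy, TrivSqZeroExt.snd_add]

theorem tng_mul_apply {x : WithConv (A →ₐ[R] DualNumber R')} (hx : post (dfst R R') x = 1) (a b : A) :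
    tng x (a * b) = algebraMap R R' (Coalgebra.counit (R := R) a) * tng x b +
      algebraMap R R' (Coalgebra.counit (R := R) b) * tng x a := by
  simp only [tng, map_mul, TrivSqZeroExt.snd_mul, smul_eq_mul, MulOpposite.smul_eq_mul_unop,
    MulOpposite.unop_op, fst_of_kernel hx]
  ring

theorem conj_mul_left {H : Type*} [Group H] (a b x : H) : a * b * x * (a * b)⁻¹ = a * (b * x * b⁻¹) * a⁻¹ := by
  group

theorem conj_mul_right {H : Type*} [Group H] (a x y : H) : a * (x * y) * a⁻¹ = a * x * a⁻¹ * (a * y * a⁻¹) := by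
  group

theorem conj_one_point {H : Type*} [Group H] (a : H) : a * 1 * a⁻¹ = 1 := by group

theorem conj_by_one {H : Type*} [Group H] (x : H) : 1 * x * (1 : H)⁻¹ = x := by group

/-- Conjugation of a tangent vector by a point. -/
noncomputable def cj (g : WithConv (A →ₐ[R] R')) (x : WithConv (A →ₐ[R] DualNumber R')) :
    WithConv (A →ₐ[R] DualNumber R') :=
  post (dinl R R') g * x * (post (dinl R R') g)⁻¹

theorem cj_kernel (g : WithConv (A →ₐ[R] R')) {x : WithConv (A →ₐ[R] DualNumber R')} (hx : post (dfst R R') x = 1) :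
    post (dfst R R') (cj g x) = 1 := by
  rw [cj, map_mul, map_mul, map_inv, hx, mul_one, mul_inv_cancel]

theorem cj_mul_left (g h : WithConv (A →ₐ[R] R')) (x : WithConv (A →ₐ[R] DualNumber R')) :
    cj (g * h) x = cj g (cj h x) := by
  rw [cj, cj, cj, map_mul]
  exact conj_mul_left (H := WithConv (A →ₐ[R] DualNumber R')) _ _ _

theorem cj_one (x : WithConv (A →ₐ[R] DualNumber R')) : cj 1 x = x := by
  rw [cj, map_one]
  exact conj_by_one x

theorem cj_mul (g : WithConv (A →ₐ[R] R')) (x y : WithConv (A →ₐ[R] DualNumber R')) :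
    cj g (x * y) = cj g x * cj g y := by
  rw [cj, cj, cj]
  exact conj_mul_right (H := WithConv (A →ₐ[R] DualNumber R')) _ _ _

/-- The map of dual numbers attached to a point and a scalar. -/
noncomputable def dmap (g : A →ₐ[R] R') (c : R') : DualNumber A →ₐ[R] DualNumber R' where
  toFun z := inl (g z.fst) + inr (c * g z.snd)
  map_one' := by ext <;> simp
  map_mul' z w := by
    ext <;> simp [MulOpposite.smul_eq_mul_unop, MulOpposite.unop_op]
    ring
  map_zero' := by ext <;> simp
  map_add' z w := by ext <;> simp [mul_add]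
  commutes' r := by ext <;> simp [TrivSqZeroExt.algebraMap_eq_inl']

/-- Dual basis data for the tangent space at the unit. -/
theorem exists_dual_derivations [Algebra.Smooth R A] :
    ∃ (d : ℕ) (b : Fin d → A) (δ : Fin d → (A →ₗ[R] R)),
      (∀ j a a', δ j (a * a') = Coalgebra.counit (R := R) a * δ j a' + Coalgebra.counit (R := R) a' * δ j a) ∧
      ∀ (R' : Type u) [CommRing R'] [Algebra R R'] (x : WithConv (A →ₐ[R] DualNumber R')),
        post (dfst R R') x = 1 → ∀ a, tng x a = ∑ j, algebraMap R R' (δ j a) * tng x (b j) := by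
  classical
  obtain ⟨s, hs, hspan⟩ := (Submodule.fg_span_iff_fg_span_finset_subset (R := A)
    (Set.range (KaehlerDifferential.D R A))).mp (by rw [KaehlerDifferential.span_range_derivation]; exact Module.Finite.fg_top)
  rw [KaehlerDifferential.span_range_derivation] at hspan
  have hb : ∀ j : Fin s.card, ∃ a, KaehlerDifferential.D R A a = (s.equivFin.symm j : Ω[A⁄R]) := fun j =>
    hs (s.equivFin.symm j).2
  choose b hb using hb
  let π : (Fin s.card → A) →ₗ[A] Ω[A⁄R] := Fintype.linearCombination A fun j => KaehlerDifferential.D R A (b j)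
  have hπ : Function.Surjective π := by
    rw [← LinearMap.range_eq_top, eq_top_iff, hspan, Submodule.span_le]
    intro w hw
    refine ⟨Pi.single (s.equivFin ⟨w, hw⟩) 1, ?_⟩
    simp [π, Fintype.linearCombination_apply_single, hb]
  obtain ⟨sec, hsec⟩ := Module.projective_lifting_property π LinearMap.id hπ
  let ε : A →ₐ[R] R := Bialgebra.counitAlgHom R A
  let δ : Fin s.card → (A →ₗ[R] R) := fun j =>
    ε.toLinearMap ∘ₗ ((LinearMap.proj j ∘ₗ sec).restrictScalars R) ∘ₗ (KaehlerDifferential.D R A).toLinearMap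
  refine ⟨s.card, b, δ, fun j a a' => ?_, fun R' _ _ x hx a => ?_⟩
  · simp [δ, ε, Derivation.leibniz]
  let σ : A →+* R' := (algebraMap R R').comp (ε : A →+* R)
  letI : Module A R' := Module.compHom R' σ
  have hsm : ∀ (a : A) (y : R'), a • y = σ a * y := fun _ _ => rfl
  haveI : IsScalarTower R A R' := ⟨fun r a y => by
    rw [hsm, hsm, Algebra.smul_def r (σ a * y), ← mul_assoc]
    congr 1
    simp [σ, ε]⟩
  let D : Derivation R A R' := Derivation.mk'
    { toFun := fun a => tng x a
      map_add' := fun a a' => by simp [tng]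
      map_smul' := fun r a => by simp [tng] }
    fun a a' => by
      rw [LinearMap.coe_mk, AddHom.coe_mk, hsm, hsm, tng_mul_apply hx]
      simp [σ, ε]
  have hD : ∀ a, D.liftKaehlerDifferential (KaehlerDifferential.D R A a) = tng x a := fun a => by
    rw [Derivation.liftKaehlerDifferential_comp_D]; rfl
  have hdec := DFunLike.congr_fun hsec (KaehlerDifferential.D R A a)
  rw [LinearMap.comp_apply, LinearMap.id_apply, Fintype.linearCombination_apply] at hdec
  conv_lhs => rw [← hD a, ← hdec, map_sum]
  refine Finset.sum_congr rfl fun j _ => ?_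
  rw [map_smul, hD, hsm]
  rfl

/-- A matrix of functions giving the adjoint representation. -/
structure AdData (R A : Type u) [CommRing R] [CommRing A] [HopfAlgebra R A] where
  /-- The size. -/
  d : ℕ
  /-- The functions giving coordinates. -/
  b : Fin d → A
  /-- The matrix. -/
  P : Matrix (Fin d) (Fin d) A
  map_mul : ∀ (R' : Type u) [CommRing R'] [Algebra R R'] (g h : WithConv (A →ₐ[R] R')),
    P.map (g * h).ofConv = P.map g.ofConv * P.map h.ofConv
  map_one : ∀ (R' : Type u) [CommRing R'] [Algebra R R'], P.map (1 : WithConv (A →ₐ[R] R')).ofConv = 1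
  eq_one : ∀ (R' : Type u) [CommRing R'] [Algebra R R'] (x : WithConv (A →ₐ[R] DualNumber R')),
    post (dfst R R') x = 1 → (∀ i, tng x (b i) = 0) → x = 1
  mulVec_tng : ∀ (R' : Type u) [CommRing R'] [Algebra R R'] (g : WithConv (A →ₐ[R] R'))
    (x : WithConv (A →ₐ[R] DualNumber R')), post (dfst R R') x = 1 →
    P.map g.ofConv *ᵥ (fun i => tng x (b i)) = fun i => tng (cj g x) (b i)
  hom_eq_one : ∀ (R' : Type u) [CommRing R'] [Algebra R R'] (g : WithConv (A →ₐ[R] R')),
    (∀ x : WithConv (A →ₐ[R] DualNumber R'), post (dfst R R') x = 1 → cj g x = x) → P.map g.ofConv = 1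

/-- The representation given by the adjoint matrix. -/
noncomputable def AdData.hom (D : AdData R A) (R' : Type u) [CommRing R'] [Algebra R R'] :
    WithConv (A →ₐ[R] R') →* Matrix (Fin D.d) (Fin D.d) R' where
  toFun g := D.P.map g.ofConv
  map_one' := D.map_one R'
  map_mul' g h := D.map_mul R' g h

theorem AdData.hom_apply (D : AdData R A) (g : WithConv (A →ₐ[R] R')) (i j : Fin D.d) :
    D.hom R' g i j = g.ofConv (D.P i j) := rfl

/-- The adjoint matrix exists. -/
theorem exists_adData [Algebra.Smooth R A] : Nonempty (AdData R A) := by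
  classical
  obtain ⟨d, b, δ, hδ, hexp⟩ := exists_dual_derivations (R := R) (A := A)
  have hδ1 : ∀ j, δ j 1 = 0 := fun j => by
    have h := hδ j 1 1
    simpa [Bialgebra.counit_one] using h
  let dp : ∀ (R' : Type u) [CommRing R'] [Algebra R R'], Fin d → R' → WithConv (A →ₐ[R] DualNumber R') :=
    fun R' _ _ j c => toConv (AlgHom.ofLinearMap
      ((inlAlgHom R R' R').toLinearMap ∘ₗ (Algebra.linearMap R R') ∘ₗ Coalgebra.counit +
        (TrivSqZeroExt.inrHom R' R').restrictScalars R ∘ₗ (LinearMap.toSpanSingleton R R' c) ∘ₗ δ j)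
      (by ext <;> simp [Bialgebra.counit_one, hδ1 j])
      fun a a' => by
        ext <;> simp [Bialgebra.counit_mul, hδ j, MulOpposite.smul_eq_mul_unop, MulOpposite.unop_op, Algebra.smul_def, TrivSqZeroExt.algebraMap_eq_inl, TrivSqZeroExt.algebraMap_eq_inl']
        ring)
  have hdp : ∀ (R' : Type u) [CommRing R'] [Algebra R R'] j (c : R'),
      post (dfst R R') (dp R' j c) = 1 ∧ ∀ a, tng (dp R' j c) a = algebraMap R R' (δ j a) * c := by
    intro R' _ _ j c
    refine ⟨?_, fun a => ?_⟩
    · apply WithConv.ofConv_injective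
      ext a
      rw [AlgHom.convOne_apply]
      show (_ : DualNumber R').fst = _
      simp [dp, TrivSqZeroExt.algebraMap_eq_inl, TrivSqZeroExt.algebraMap_eq_inl']
    · simp [dp, tng, Algebra.smul_def, TrivSqZeroExt.algebraMap_eq_inl, TrivSqZeroExt.algebraMap_eq_inl']
  let X : WithConv (A →ₐ[R] A) := toConv (AlgHom.id R A)
  let M : Matrix (Fin d) (Fin d) A := Matrix.of fun i j => tng (cj X (dp A j 1)) (b i)
  have hcj : ∀ (R' : Type u) [CommRing R'] [Algebra R R'] (g : WithConv (A →ₐ[R] R')) j (c : R'),
      ∀ i, tng (cj g (dp R' j c)) (b i) = c * g.ofConv (M i j) := by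
    intro R' _ _ g j c i
    have h1 : post (dmap g.ofConv c) (dp A j 1) = dp R' j c := by
      refine eq_of_tng ?_ (hdp R' j c).1 fun a => ?_
      · apply WithConv.ofConv_injective
        ext a
        rw [AlgHom.convOne_apply]
        show (_ : DualNumber R').fst = _
        simp [dp, post, dmap, TrivSqZeroExt.algebraMap_eq_inl, TrivSqZeroExt.algebraMap_eq_inl']
      · show (dmap g.ofConv c ((dp A j 1).ofConv a)).snd = _
        rw [(hdp R' j c).2]
        simp [dp, dmap, Algebra.smul_def, mul_comm, TrivSqZeroExt.algebraMap_eq_inl, TrivSqZeroExt.algebraMap_eq_inl']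
    have h2 : post (dmap g.ofConv c) (post (dinl R A) X) = post (dinl R R') g := by
      apply WithConv.ofConv_injective
      ext a <;> simp [post, dmap, X]
    have h3 : cj g (dp R' j c) = post (dmap g.ofConv c) (cj X (dp A j 1)) := by
      rw [cj, cj, _root_.map_mul, _root_.map_mul, map_inv, h1, h2]
    rw [h3]
    show (dmap g.ofConv c ((cj X (dp A j 1)).ofConv (b i))).snd = _
    simp [dmap, M, tng]
  have hlin : ∀ (R' : Type u) [CommRing R'] [Algebra R R'] (g : WithConv (A →ₐ[R] R'))
      (x : WithConv (A →ₐ[R] DualNumber R')), post (dfst R R') x = 1 →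
      ∀ i, tng (cj g x) (b i) = ∑ j, g.ofConv (M i j) * tng x (b j) := by
    intro R' _ _ g x hx i
    have key : ∀ s : Finset (Fin d), ∃ z : WithConv (A →ₐ[R] DualNumber R'), post (dfst R R') z = 1 ∧
        (∀ a, tng z a = ∑ j ∈ s, algebraMap R R' (δ j a) * tng x (b j)) ∧
        tng (cj g z) (b i) = ∑ j ∈ s, g.ofConv (M i j) * tng x (b j) := by
      intro s
      induction s using Finset.induction_on with
      | empty => exact ⟨1, _root_.map_one _, fun a => by simp [tng_one], by
        rw [show cj g (1 : WithConv (A →ₐ[R] DualNumber R')) = 1 from by rw [cj]; exact conj_one_point (H := WithConv (A →ₐ[R] DualNumber R')) _, tng_one]; simp⟩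
      | insert j s hj ih =>
        obtain ⟨z, hz1, hz2, hz3⟩ := ih
        obtain ⟨hp1, hp2⟩ := hdp R' j (tng x (b j))
        refine ⟨dp R' j (tng x (b j)) * z, by rw [_root_.map_mul, hp1, hz1, _root_.mul_one], fun a => ?_, ?_⟩
        · rw [tng_mul hp1 hz1, hp2, hz2, Finset.sum_insert hj]
        · rw [cj_mul, tng_mul (cj_kernel g hp1) (cj_kernel g hz1), hz3, hcj, Finset.sum_insert hj, mul_comm]
    obtain ⟨z, hz1, hz2, hz3⟩ := key Finset.univ
    rw [show x = z from eq_of_tng hx hz1 fun a => by rw [hz2, hexp R' x hx a]] at hz3 ⊢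
    exact hz3
  let E : Matrix (Fin d) (Fin d) R := Matrix.of fun i j => δ j (b i)
  have hE : ∀ (R' : Type u) [CommRing R'] [Algebra R R'] (x : WithConv (A →ₐ[R] DualNumber R')),
      post (dfst R R') x = 1 → ∀ i, ∑ j, algebraMap R R' (E i j) * tng x (b j) = tng x (b i) := by
    intro R' _ _ x hx i
    exact (hexp R' x hx (b i)).symm
  have hEcol : ∀ (R' : Type u) [CommRing R'] [Algebra R R'] i j,
      algebraMap R R' (E i j) = tng (dp R' j 1) (b i) := fun R' _ _ i j => by
    rw [(hdp R' j 1).2, _root_.mul_one]; rfl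
  have hMone : ∀ (R' : Type u) [CommRing R'] [Algebra R R'],
      M.map (1 : WithConv (A →ₐ[R] R')).ofConv = E.map (algebraMap R R') := by
    intro R' _ _
    ext i j
    have h := hcj R' 1 j 1 i
    rw [cj_one, ← hEcol, _root_.one_mul] at h
    exact h.symm
  have hMmul : ∀ (R' : Type u) [CommRing R'] [Algebra R R'] (g h : WithConv (A →ₐ[R] R')),
      M.map (g * h).ofConv = M.map g.ofConv * M.map h.ofConv := by
    intro R' _ _ g h
    ext i j
    have e := hcj R' (g * h) j 1 i
    rw [cj_mul_left, hlin R' g _ (cj_kernel h (hdp R' j 1).1) i, _root_.one_mul] at e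
    rw [Matrix.map_apply, ← e, Matrix.mul_apply]
    refine Finset.sum_congr rfl fun l _ => ?_
    rw [hcj, _root_.one_mul]
    rfl
  have hEM : ∀ (R' : Type u) [CommRing R'] [Algebra R R'] (h : WithConv (A →ₐ[R] R')),
      E.map (algebraMap R R') * M.map h.ofConv = M.map h.ofConv := by
    intro R' _ _ h
    ext i j
    have e := hE R' _ (cj_kernel h (hdp R' j 1).1) i
    rw [Matrix.mul_apply]
    simpa [hcj] using e
  have hME : ∀ (R' : Type u) [CommRing R'] [Algebra R R'] (g : WithConv (A →ₐ[R] R')),
      M.map g.ofConv * E.map (algebraMap R R') = M.map g.ofConv := by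
    intro R' _ _ g
    ext i j
    have e := hlin R' g _ (hdp R' j 1).1 i
    rw [hcj, _root_.one_mul] at e
    rw [Matrix.mul_apply, Matrix.map_apply, e]
    exact Finset.sum_congr rfl fun l _ => by rw [Matrix.map_apply, Matrix.map_apply, hEcol]
  let P : Matrix (Fin d) (Fin d) A := M + (1 - E.map (algebraMap R A))
  have hP : ∀ (R' : Type u) [CommRing R'] [Algebra R R'] (g : WithConv (A →ₐ[R] R')),
      P.map g.ofConv = M.map g.ofConv + (1 - E.map (algebraMap R R')) := by
    intro R' _ _ g
    ext i j
    simp [P, Matrix.one_apply, apply_ite g.ofConv]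
  refine ⟨⟨d, b, P, fun R' _ _ g h => ?_, fun R' _ _ => ?_, fun R' _ _ x hx h0 => ?_, fun R' _ _ g x hx => ?_,
    fun R' _ _ g hg => ?_⟩⟩
  · have hEE : E.map (algebraMap R R') * E.map (algebraMap R R') = E.map (algebraMap R R') := by
      simpa [hMone] using hEM R' 1
    rw [hP, hP, hP, hMmul]
    simp only [add_mul, mul_add, sub_mul, mul_sub, _root_.one_mul, _root_.mul_one, hEM, hME, hEE]
    abel
  · rw [hP, hMone, add_sub_cancel]
  · exact eq_of_tng hx (_root_.map_one _) fun a => by
      rw [hexp R' x hx a, tng_one]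
      exact Finset.sum_eq_zero fun j _ => by rw [h0, mul_zero]
  · funext i
    rw [hP, Matrix.add_mulVec, Matrix.sub_mulVec, Matrix.one_mulVec]
    simp only [Pi.add_apply, Pi.sub_apply, Matrix.mulVec, dotProduct, Matrix.map_apply]
    rw [hE R' x hx i, sub_self, add_zero, ← hlin R' g x hx i]
  · have hMg : M.map g.ofConv = E.map (algebraMap R R') := by
      ext i j
      have h := hcj R' g j 1 i
      rw [hg _ (hdp R' j 1).1, ← hEcol, _root_.one_mul] at h
      exact h.symm
    rw [hP, hMg, add_sub_cancel]

end Groth.Agent.RedOpenLib
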