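import Groth.Agent.RedOpenLib.Cell
import Mathlib.RingTheory.HopfAlgebra.TensorProduct

/-!
# The adjoint matrix and the points after a base change to a field
-/

set_option autoImplicit false
set_option linter.style.haveILetI false
set_option backward.isDefEq.respectTransparency false
set_option backward.isDefEq.respectTransparency.types false

universe u

open CategoryTheory CategoryTheory.Limits MonoidalCategory CartesianMonoidalCategory MonObj GrpObj AlgebraicGeometry
open TensorProduct WithConv TrivSqZeroExt
open scoped Groth.Agent.DynLib Matrix

namespace Groth.Agent.RedOpenLib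

open DynLib DynSm GrpSchLib GrpSchLib.Kunneth GrpSchLib.AffineHopf GModLib

variable {R : Type u} [CommRing R] {A : Type u} [CommRing A] [HopfAlgebra R A]
  {S : Type u} [CommRing S] [Algebra R S]

/-- Restriction of points along a base change. -/
noncomputable def restrHom (C : Type u) [CommRing C] [Algebra S C] [Algebra R C] [IsScalarTower R S C] :
    WithConv (S ⊗[R] A →ₐ[S] C) →* WithConv (A →ₐ[R] C) :=
  MonoidHom.mk' (fun g => toConv ((g.ofConv.restrictScalars R).comp Algebra.TensorProduct.includeRight)) fun f g => by
    have hext : ∀ h : S ⊗[R] A →ₐ[S] C,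
        extendScalars ((h.restrictScalars R).comp Algebra.TensorProduct.includeRight) = h := fun h =>
      Algebra.TensorProduct.ext (Subsingleton.elim _ _) (AlgHom.ext fun a => by
        show extendScalars _ (1 ⊗ₜ[R] a) = h (1 ⊗ₜ[R] a)
        rw [extendScalars_tmul, one_smul]
        rfl)
    apply WithConv.ofConv_injective
    ext a
    have h := extendScalars_mul (S := S) (toConv ((f.ofConv.restrictScalars R).comp Algebra.TensorProduct.includeRight))
      (toConv ((g.ofConv.restrictScalars R).comp Algebra.TensorProduct.includeRight))
    simp only [ofConv_toConv, hext] at h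
    have h1 := DFunLike.congr_fun h (1 ⊗ₜ[R] a)
    rw [extendScalars_tmul, one_smul] at h1
    exact h1

theorem restrHom_apply {C : Type u} [CommRing C] [Algebra S C] [Algebra R C] [IsScalarTower R S C]
    (g : WithConv (S ⊗[R] A →ₐ[S] C)) (a : A) : (restrHom C g).ofConv a = g.ofConv (1 ⊗ₜ[R] a) := rfl

theorem restrHom_injective {C : Type u} [CommRing C] [Algebra S C] [Algebra R C] [IsScalarTower R S C] :
    Function.Injective (restrHom (R := R) (A := A) (S := S) C) := fun f g h =>
  WithConv.ofConv_injective (Algebra.TensorProduct.ext (Subsingleton.elim _ _) (AlgHom.ext fun a =>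
    DFunLike.congr_fun (congrArg WithConv.ofConv h) a))

theorem restrHom_extendScalars {C : Type u} [CommRing C] [Algebra S C] [Algebra R C] [IsScalarTower R S C]
    (f : WithConv (A →ₐ[R] C)) : restrHom (S := S) C (toConv (extendScalars f.ofConv)) = f := by
  apply WithConv.ofConv_injective
  ext a
  show extendScalars f.ofConv (1 ⊗ₜ[R] a) = _
  rw [extendScalars_tmul, one_smul]

/-- The adjoint matrix after a change of the base. -/
noncomputable def AdData.baseChange (D : AdData R A) (S : Type u) [CommRing S] [Algebra R S] :
    AdData S (S ⊗[R] A) where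
  d := D.d
  b i := 1 ⊗ₜ[R] D.b i
  P := D.P.map fun a => (1 : S) ⊗ₜ[R] a
  map_mul R' _ _ g h := by
    let _ : Algebra R R' := ((algebraMap S R').comp (algebraMap R S)).toAlgebra
    haveI : IsScalarTower R S R' := IsScalarTower.of_algebraMap_eq fun _ => rfl
    have e := D.map_mul R' (restrHom R' g) (restrHom R' h)
    rw [← _root_.map_mul] at e
    rw [Matrix.map_map, Matrix.map_map, Matrix.map_map]
    exact e
  map_one R' _ _ := by
    let _ : Algebra R R' := ((algebraMap S R').comp (algebraMap R S)).toAlgebra
    haveI : IsScalarTower R S R' := IsScalarTower.of_algebraMap_eq fun _ => rfl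
    have e := D.map_one R'
    rw [← _root_.map_one (restrHom (R := R) (A := A) (S := S) R')] at e
    rw [Matrix.map_map]
    exact e
  eq_one R' _ _ x hx h0 := by
    let _ : Algebra R R' := ((algebraMap S R').comp (algebraMap R S)).toAlgebra
    haveI : IsScalarTower R S R' := IsScalarTower.of_algebraMap_eq fun _ => rfl
    have hx' : post (dfst R R') (restrHom (DualNumber R') x) = 1 := by
      rw [← _root_.map_one (restrHom (R := R) (A := A) (S := S) R'), ← hx]
      rfl
    refine restrHom_injective ?_
    rw [D.eq_one R' _ hx' h0, _root_.map_one]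
  mulVec_tng R' _ _ g x hx := by
    let _ : Algebra R R' := ((algebraMap S R').comp (algebraMap R S)).toAlgebra
    haveI : IsScalarTower R S R' := IsScalarTower.of_algebraMap_eq fun _ => rfl
    have hx' : post (dfst R R') (restrHom (DualNumber R') x) = 1 := by
      rw [← _root_.map_one (restrHom (R := R) (A := A) (S := S) R'), ← hx]
      rfl
    have hcj : restrHom (DualNumber R') (cj g x) = cj (restrHom R' g) (restrHom (DualNumber R') x) := by
      rw [cj, cj, _root_.map_mul, _root_.map_mul, map_inv]
      rfl
    have e := D.mulVec_tng R' (restrHom R' g) (restrHom (DualNumber R') x) hx'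
    rw [← hcj] at e
    rw [Matrix.map_map]
    exact e
  hom_eq_one R' _ _ g hg := by
    let _ : Algebra R R' := ((algebraMap S R').comp (algebraMap R S)).toAlgebra
    haveI : IsScalarTower R S R' := IsScalarTower.of_algebraMap_eq fun _ => rfl
    have e := D.hom_eq_one R' (restrHom R' g) fun x hx => by
      let y : WithConv (S ⊗[R] A →ₐ[S] DualNumber R') := toConv (extendScalars x.ofConv)
      have hy : restrHom (DualNumber R') y = x := restrHom_extendScalars x
      have hy1 : post (dfst S R') y = 1 := by
        refine restrHom_injective (R := R) ?_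
        rw [_root_.map_one, ← hx, ← hy]
        rfl
      conv_rhs => rw [← hy, ← hg y hy1]
      rw [cj, cj, _root_.map_mul, _root_.map_mul, map_inv, hy]
      rfl
    rw [Matrix.map_map]
    exact e

theorem baseChange_hom (D : AdData R A) {k : Type u} [Field k] [Algebra R k] (g : WithConv (k ⊗[R] A →ₐ[k] k)) :
    (D.baseChange k).hom k g = D.hom k (restrHom k g) := rfl

end Groth.Agent.RedOpenLib
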