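import Groth.Agent.RedOpenLib.Fibre
import Groth.Agent.DynSm.Etale
import Mathlib.RingTheory.Bialgebra.MonoidAlgebra

/-!
# The open cell of a one-parameter subgroup on rational points
-/

set_option autoImplicit false
set_option linter.style.haveILetI false
set_option backward.isDefEq.respectTransparency false
set_option backward.isDefEq.respectTransparency.types false

universe u

open CategoryTheory CategoryTheory.Limits MonoidalCategory CartesianMonoidalCategory MonObj GrpObj AlgebraicGeometry
open LaurentPolynomial TensorProduct WithConv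
open scoped Groth.Agent.DynLib

namespace Groth.Agent.RedOpenLib

open DynLib DynSm GrpSchLib GrpSchLib.Kunneth GrpSchLib.AffineHopf GModLib

variable {R : Type u} [CommRing R] {A : Type u} [CommRing A] [HopfAlgebra R A] (lam : A →ₐc[R] R[T;T⁻¹])
  {R' : Type u} [CommRing R'] [Algebra R R']

/-- The opposite one-parameter subgroup. -/
noncomputable def negLam : A →ₐc[R] R[T;T⁻¹] :=
  (AddMonoidAlgebra.mapDomainBialgHom R (negAddMonoidHom : ℤ →+ ℤ)).comp lam

theorem negLam_eq : (negLam lam : A →ₐ[R] R[T;T⁻¹]) = Dyn.negParam R A lam := by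
  refine AlgHom.ext fun a => ?_
  show AddMonoidAlgebra.mapDomainBialgHom R (negAddMonoidHom : ℤ →+ ℤ) (lam a) = LaurentPolynomial.invert (lam a)
  generalize lam a = p
  induction p using AddMonoidAlgebra.induction_linear with
  | zero => simp
  | add p q hp hq => simp only [map_add, hp, hq]
  | single n r =>
    rw [AddMonoidAlgebra.mapDomainBialgHom_single, LaurentPolynomial.single_eq_C_mul_T r n, map_mul,
      LaurentPolynomial.invert_C, LaurentPolynomial.invert_T, ← LaurentPolynomial.single_eq_C_mul_T]
    rfl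

/-- The points of the open cell. -/
def cellSet : Set ↥(Spec (CommRingCat.of A)) :=
  Set.range (Spec.map (CommRingCat.ofHom (cell (k := R) (idealP lam) (idealU (negLam lam))).toRingHom))

theorem isOpen_cellSet [Algebra.Smooth R A] : IsOpen (cellSet lam) := by
  haveI := isOpenImmersion_cell (lam := lam) (negLam_eq lam) (represents_idealP lam) (represents_idealU (negLam lam))
  exact (Spec.map (CommRingCat.ofHom (cell (k := R) (idealP lam) (idealU (negLam lam))).toRingHom)).isOpenEmbedding.isOpen_range

variable {k : Type u} [Field k] [Algebra R k]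

/-- A point of the cell is a product. -/
theorem exists_cell_factor [Algebra.Smooth R A] {g : WithConv (A →ₐ[R] k)} (hg : basePt R A k g ∈ cellSet lam) :
    ∃ u p : WithConv (A →ₐ[R] k), Dyn.LimIsOne R A (negLam lam) k u.ofConv ∧ Dyn.LimExists R A lam k p.ofConv ∧
      u * p = g := by
  haveI := isOpenImmersion_cell (lam := lam) (negLam_eq lam) (represents_idealP lam) (represents_idealU (negLam lam))
  set f := Spec.map (CommRingCat.ofHom (cell (k := R) (idealP lam) (idealU (negLam lam))).toRingHom) with hf
  have hsub : Set.range (Spec.map (CommRingCat.ofHom g.ofConv.toRingHom)) ⊆ Set.range f := by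
    rintro _ ⟨x, rfl⟩
    have hx : x = IsLocalRing.closedPoint k := @Subsingleton.elim (Spec (CommRingCat.of k)) _ x _
    rw [hx]
    exact hg
  let l := IsOpenImmersion.lift f (Spec.map (CommRingCat.ofHom g.ofConv.toRingHom)) hsub
  have hl : CommRingCat.ofHom (cell (k := R) (idealP lam) (idealU (negLam lam))).toRingHom ≫ Spec.preimage l =
      CommRingCat.ofHom g.ofConv.toRingHom :=
    Spec.map_injective (by rw [Spec.map_comp, Spec.map_preimage]; exact IsOpenImmersion.lift_fac _ _ _)
  let θ : (A ⧸ idealU (negLam lam)) ⊗[R] (A ⧸ idealP lam) →ₐ[R] k :=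
    { (Spec.preimage l).hom with
      commutes' := fun r => by
        have h1 := congrArg (fun φ => φ.hom (algebraMap R A r)) hl
        simp only [CommRingCat.hom_comp, RingHom.comp_apply, CommRingCat.hom_ofHom, AlgHom.toRingHom_eq_coe,
          RingHom.coe_coe, AlgHom.commutes] at h1
        exact h1 }
  have hθ : θ.comp (cell (k := R) (idealP lam) (idealU (negLam lam))) = g.ofConv :=
    AlgHom.ext fun a => congrArg (fun φ => φ.hom a) hl
  refine ⟨_, _, (represents_idealU (negLam lam) k _).mp fun a ha => ?_, (represents_idealP lam k _).mp fun a ha => ?_,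
    (toConv_comp_cell _ _ θ).symm.trans (by rw [hθ])⟩ <;>
  · simp [Ideal.Quotient.eq_zero_iff_mem.mpr ha]

/-- The identity lies in the cell. -/
theorem one_mem_cellSet : basePt R A k 1 ∈ cellSet lam := by
  let θ₁ := Ideal.Quotient.liftₐ (idealU (negLam lam)) (1 : WithConv (A →ₐ[R] k)).ofConv
    ((represents_idealU (negLam lam) k _).mpr ((mem_limOneSubgroup (negLam lam) _).mp (Subgroup.one_mem _)))
  let θ₂ := Ideal.Quotient.liftₐ (idealP lam) (1 : WithConv (A →ₐ[R] k)).ofConv
    ((represents_idealP lam k _).mpr ((mem_limSubgroup lam _).mp (Subgroup.one_mem _)))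
  let θ := Algebra.TensorProduct.productMap θ₁ θ₂
  have e1 : toConv (θ.comp (ptL (idealP lam) (idealU (negLam lam)))) = (1 : WithConv (A →ₐ[R] k)) := by
    apply WithConv.ofConv_injective; ext a; simp [θ, θ₁, ptL]
  have e2 : toConv (θ.comp (ptR (idealP lam) (idealU (negLam lam)))) = (1 : WithConv (A →ₐ[R] k)) := by
    apply WithConv.ofConv_injective; ext a; simp [θ, θ₂, ptR]
  have h : θ.comp (cell (k := R) (idealP lam) (idealU (negLam lam))) = (1 : WithConv (A →ₐ[R] k)).ofConv := by
    have h1 := toConv_comp_cell (idealP lam) (idealU (negLam lam)) θ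
    rw [e1, e2, _root_.mul_one] at h1
    exact congrArg WithConv.ofConv h1
  refine ⟨Spec.map (CommRingCat.ofHom θ.toRingHom) (IsLocalRing.closedPoint k), ?_⟩
  rw [← Scheme.Hom.comp_apply, ← Spec.map_comp, basePt, ← h]
  rfl

/-- A point of the attracting subgroup is a fixed point times a point tending to one. -/
theorem exists_levi {p : WithConv (A →ₐ[R] R')} (hp : Dyn.LimExists R A lam R' p.ofConv) :
    ∃ (z u : WithConv (A →ₐ[R] R')) (h : WithConv (A →ₐ[R] Polynomial R')),
      conjHom lam R' z = post (con R R') z ∧ Dyn.LimIsOne R A lam R' u.ofConv ∧ z * u = p ∧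
        post (toL R R') h = conjHom lam R' p ∧ post (ev0 R R') h = z := by
  obtain ⟨h, hh⟩ := (limExists_iff_range lam p.ofConv).mp hp
  rw [toConv_ofConv] at hh
  obtain ⟨⟨z, u⟩, ⟨hz, hu, he⟩, -⟩ := existsUnique_levi lam p.ofConv hp
  rw [HopfPtLib.conv3_one] at he
  refine ⟨toConv z, toConv u, h, ?_, hu, ?_, hh, ?_⟩
  · rw [← toConv_conjOrbit]; exact congrArg toConv hz
  · exact WithConv.ofConv_injective he
  · obtain ⟨hu', hu1, hu2⟩ := (limIsOne_iff lam u).mp hu
    let polyC : R' →ₐ[R] Polynomial R' := IsScalarTower.toAlgHom R R' (Polynomial R')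
    have hL : post (toL R R') (post polyC (toConv z)) = post (con R R') (toConv z) := by
      apply WithConv.ofConv_injective
      ext a : 1
      simp [post, polyC, LaurentPolynomial.algebraMap_apply]
    have h7 : post polyC (toConv z) * hu' = h := by
      apply WithConv.ofConv_injective
      ext a : 1
      refine toL_injective (k := R) (congrArg (fun q : WithConv (A →ₐ[R] R'[T;T⁻¹]) => q.ofConv a)
        (?_ : post (toL R R') (post polyC (toConv z) * hu') = post (toL R R') h))
      rw [_root_.map_mul, hL, hu1, hh, show p = toConv z * toConv u from (WithConv.ofConv_injective he).symm,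
        _root_.map_mul, ← toConv_conjOrbit lam z]
      exact congrArg (· * _) (congrArg toConv hz.symm)
    rw [← h7, _root_.map_mul, hu2, _root_.mul_one]
    apply WithConv.ofConv_injective
    ext a
    simp [post, polyC]

theorem limIsOne_fixed {g : WithConv (A →ₐ[R] R')} (hg : Dyn.LimIsOne R A lam R' g.ofConv)
    (hc : conjHom lam R' g = post (con R R') g) : g = 1 := by
  obtain ⟨h, hh, h0⟩ := (limIsOne_iff lam g.ofConv).mp hg
  rw [toConv_ofConv, hc] at hh
  rw [← h0]
  apply WithConv.ofConv_injective
  ext a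
  have e : toL R R' (h.ofConv a) = toL R R' (Polynomial.C (g.ofConv a)) := by
    refine (congrArg (fun q : WithConv (A →ₐ[R] R'[T;T⁻¹]) => q.ofConv a) hh).trans ?_
    rw [AlgHom.restrictScalars_apply, Polynomial.toLaurentAlg_apply, Polynomial.toLaurent_C]
    rfl
  show g.ofConv a = Polynomial.aeval (0 : R') (h.ofConv a)
  rw [toL_injective e]
  simp

theorem conjHom_eq_con_of_weights {g : WithConv (A →ₐ[R] R')} (h : ∀ a n, n ≠ 0 → g.ofConv (wpr lam n a) = 0) :
    conjHom lam R' g = post (con R R') g := by
  have h1 : ∀ a, (conjHom lam R' g).ofConv a = AddMonoidAlgebra.single 0 (g.ofConv (wpr lam 0 a)) := fun a => by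
    refine eq_single_of_coeff fun n => ?_
    rw [coeff_conj]
    by_cases hn : n = 0
    · subst hn; simp
    · rw [h a n hn, if_neg hn]
  apply WithConv.ofConv_injective
  ext a : 1
  have h2 : g.ofConv (wpr lam 0 a) = g.ofConv a := by
    conv_rhs => rw [← ev1_conjHom lam g]
    show _ = ev1 R R' ((conjHom lam R' g).ofConv a)
    rw [h1, ev1_single]
  rw [h1, h2]
  rfl

theorem weights_of_conjHom_eq_con {g : WithConv (A →ₐ[R] R')} (h : conjHom lam R' g = post (con R R') g) (a : A)
    (n : ℤ) (hn : n ≠ 0) : g.ofConv (wpr lam n a) = 0 := by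
  rw [← coeff_conj, h]
  show (con R R' (g.ofConv a)).coeff n = 0
  simp [LaurentPolynomial.algebraMap_apply, hn]

variable [IsAlgClosed k]

/-- A point of the cell with trivial unipotent factors is fixed. -/
theorem conjHom_eq_con_of_trivial [Algebra.Smooth R A] {g : WithConv (A →ₐ[R] k)} (hg : basePt R A k g ∈ cellSet lam)
    (hn : ∀ u : WithConv (A →ₐ[R] k), Dyn.LimIsOne R A (negLam lam) k u.ofConv → u = 1)
    (hp : ∀ u : WithConv (A →ₐ[R] k), Dyn.LimIsOne R A lam k u.ofConv → u = 1) :
    conjHom lam k g = post (con R k) g := by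
  obtain ⟨u, p, hu, hpl, rfl⟩ := exists_cell_factor lam hg
  obtain ⟨z, v, h, hz, hv, rfl, -, -⟩ := exists_levi lam hpl
  rw [hn u hu, hp v hv, _root_.one_mul, _root_.mul_one]
  exact hz

/-- Commutation with a one-parameter subgroup spreads from the cell to a connected subgroup. -/
theorem conjHom_eq_con_of_open [Algebra.Smooth R A] {D : Over (Spec (CommRingCat.of k))} [GrpObj D] [IsAffine D.left]
    [Smooth D.hom] [ConnectedSpace D.left] (f : D ⟶ fib R A k) [IsMonHom f]
    (h : ∀ q : VecGrp.pt k k ⟶ D, basePt R A k ((ptEquiv R A k).symm (q ≫ f)) ∈ cellSet lam →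
      conjHom lam k ((ptEquiv R A k).symm (q ≫ f)) = post (con R k) ((ptEquiv R A k).symm (q ≫ f)))
    (q : VecGrp.pt k k ⟶ D) :
    conjHom lam k ((ptEquiv R A k).symm (q ≫ f)) = post (con R k) ((ptEquiv R A k).symm (q ≫ f)) := by
  let O : Set D.left := (f.left ≫ pullback.fst (sp R A).hom (Spec.map (CommRingCat.ofHom (algebraMap R k)))) ⁻¹'
    cellSet lam
  have hO : IsOpen O := (isOpen_cellSet lam).preimage (Scheme.Hom.continuous _)
  have hq : ∀ q : VecGrp.pt k k ⟶ D, q.left (IsLocalRing.closedPoint k) ∈ O ↔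
      basePt R A k ((ptEquiv R A k).symm (q ≫ f)) ∈ cellSet lam := fun q => by
    rw [← fst_ptEquiv, MulEquiv.apply_symm_apply]
    rfl
  have hone : (1 : VecGrp.pt k k ⟶ D).left (IsLocalRing.closedPoint k) ∈ O := by
    rw [hq, MonObj.one_comp, _root_.map_one]
    exact one_mem_cellSet lam
  refine conjHom_eq_con_of_weights lam fun a n hn => ?_
  rw [← pullFn_incl, MulEquiv.apply_symm_apply, ← pullFn_ev]
  refine eq_zero_of_open hO ⟨_, hone⟩ _ (fun q' hq' => ?_) q
  rw [pullFn_ev, ← MulEquiv.apply_symm_apply (ptEquiv R A k) (q' ≫ f), pullFn_incl]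
  exact weights_of_conjHom_eq_con lam (h q' ((hq q').mp hq')) a n hn

end Groth.Agent.RedOpenLib
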