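import Groth.Agent.RedOpenLib.AdMatrix
import Groth.Agent.DynSm.Smooth
import Mathlib.Algebra.Polynomial.Roots
import Mathlib.Algebra.Polynomial.Reverse

/-!
# One-parameter subgroups acting on tangent vectors
-/

set_option autoImplicit false
set_option backward.isDefEq.respectTransparency false
set_option backward.isDefEq.respectTransparency.types false

universe u

open LaurentPolynomial TensorProduct WithConv TrivSqZeroExt
open scoped Groth.Agent.DynLib Matrix

namespace Groth.Agent.RedOpenLib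

open DynLib DynSm

variable {R : Type u} [CommRing R] {A : Type u} [CommRing A] [HopfAlgebra R A] (lam : A →ₐc[R] R[T;T⁻¹])
  {R' R'' : Type u} [CommRing R'] [Algebra R R'] [CommRing R''] [Algebra R R'']

/-- Evaluation of the variable at a unit. -/
noncomputable def evT (R : Type u) [CommRing R] {R' : Type u} [CommRing R'] [Algebra R R'] (t : R'ˣ) :
    R'[T;T⁻¹] →ₐ[R] R' :=
  (AddMonoidAlgebra.lift R' R' ℤ ((Units.coeHom R').comp (zpowersHom R'ˣ t))).restrictScalars R

theorem evT_single (t : R'ˣ) (n : ℤ) (r : R') :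
    evT R t (AddMonoidAlgebra.single n r) = r * ((t ^ n : R'ˣ) : R') := by
  rw [evT, AlgHom.restrictScalars_apply, AddMonoidAlgebra.lift_single]
  simp

theorem evT_algebraMap (t : R'ˣ) (r : R') : evT R t (algebraMap R' R'[T;T⁻¹] r) = r := by
  rw [evT, AlgHom.restrictScalars_apply, AlgHom.commutes]
  rfl

theorem evT_con (t : R'ˣ) (r : R') : evT R t (con R R' r) = r := evT_algebraMap t r

theorem evT_map (φ : R' →ₐ[R] R'') (t : R'ˣ) (p : R'[T;T⁻¹]) :
    evT R (Units.map (φ : R' →* R'') t) (AddMonoidAlgebra.mapAlgHom ℤ φ p) = φ (evT R t p) := by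
  induction p using AddMonoidAlgebra.induction_linear with
  | zero => simp
  | add p q hp hq => simp only [map_add, hp, hq]
  | single n r => rw [mapAlgHom_single', evT_single, evT_single, map_mul, ← map_zpow, Units.coe_map]; rfl

theorem evT_toL (t : R'ˣ) (p : Polynomial R') : evT R t (toL R R' p) = p.eval (t : R') := by
  induction p using Polynomial.induction_on' with
  | add p q hp hq => simp only [map_add, hp, hq, Polynomial.eval_add]
  | monomial n r =>
    rw [AlgHom.restrictScalars_apply, Polynomial.toLaurentAlg_apply, Polynomial.toLaurent_C_mul_T,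
      ← LaurentPolynomial.single_eq_C_mul_T, evT_single, Polynomial.eval_monomial]
    simp

theorem evT_invk (t : R'ˣ) (p : R'[T;T⁻¹]) : evT R t (invk R R' p) = evT R t⁻¹ p := by
  induction p using AddMonoidAlgebra.induction_linear with
  | zero => simp
  | add p q hp hq => simp only [map_add, hp, hq]
  | single n r =>
    rw [invk, AlgHom.restrictScalars_apply, AlgEquiv.toAlgHom_apply, evT_single,
      LaurentPolynomial.single_eq_C_mul_T, map_mul, LaurentPolynomial.invert_C, LaurentPolynomial.invert_T,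
      ← LaurentPolynomial.single_eq_C_mul_T, evT_single, zpow_neg, inv_zpow]

/-- The point of the one-parameter subgroup at a unit. -/
noncomputable def lamAt (t : R'ˣ) : WithConv (A →ₐ[R] R') := post (evT R t) (lamW lam R')

theorem post_lamAt (φ : R' →ₐ[R] R'') (t : R'ˣ) :
    post φ (lamAt lam t) = lamAt lam (Units.map (φ : R' →* R'') t) := by
  apply WithConv.ofConv_injective
  ext a : 1
  show φ (evT R t (Dyn.lamR R A lam R' a)) = evT R _ (Dyn.lamR R A lam R'' a)
  rw [← evT_map, ← AlgHom.comp_apply (AddMonoidAlgebra.mapAlgHom ℤ φ), lamR_natural]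

theorem post_evT_conjHom (t : R'ˣ) (g : WithConv (A →ₐ[R] R')) :
    post (evT R t) (conjHom lam R' g) = lamAt lam t * g * (lamAt lam t)⁻¹ := by
  rw [conjHom_apply, map_mul, map_mul, map_inv]
  congr 2
  apply WithConv.ofConv_injective
  ext a : 1
  exact evT_con (R := R) t (g.ofConv a)

theorem conj_lamAt_eq_eval (t : R'ˣ) {g : WithConv (A →ₐ[R] R')} {h : WithConv (A →ₐ[R] Polynomial R')}
    (hh : post (toL R R') h = conjHom lam R' g) :
    lamAt lam t * g * (lamAt lam t)⁻¹ = post ((Polynomial.aeval (t : R')).restrictScalars R) h := by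
  rw [← post_evT_conjHom, ← hh]
  apply WithConv.ofConv_injective
  ext a : 1
  show evT R t (toL R R' (h.ofConv a)) = Polynomial.aeval (t : R') (h.ofConv a)
  rw [evT_toL, Polynomial.coe_aeval_eq_eval]

theorem conjHom_neg {lamNeg : A →ₐc[R] R[T;T⁻¹]} (hneg : (lamNeg : A →ₐ[R] R[T;T⁻¹]) = Dyn.negParam R A lam)
    (g : WithConv (A →ₐ[R] R')) : conjHom lamNeg R' g = post (invk R R') (conjHom lam R' g) := by
  rw [show g = toConv g.ofConv from rfl, ← toConv_conjOrbit, ← toConv_conjOrbit, conjOrbit_neg lam lamNeg hneg]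
  rfl

theorem conj_lamNegAt {lamNeg : A →ₐc[R] R[T;T⁻¹]} (hneg : (lamNeg : A →ₐ[R] R[T;T⁻¹]) = Dyn.negParam R A lam)
    (t : R'ˣ) (g : WithConv (A →ₐ[R] R')) :
    lamAt lamNeg t * g * (lamAt lamNeg t)⁻¹ = lamAt lam t⁻¹ * g * (lamAt lam t⁻¹)⁻¹ := by
  rw [← post_evT_conjHom, ← post_evT_conjHom, conjHom_neg lam hneg]
  apply WithConv.ofConv_injective
  ext a : 1
  exact evT_invk (R := R) t _

theorem cj_lamAt (t : R'ˣ) (x : WithConv (A →ₐ[R] DualNumber R')) :
    cj (lamAt lam t) x = post (evT R (Units.map (dinl R R' : R' →* DualNumber R') t)) (conjHom lam _ x) := by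
  rw [cj, post_lamAt, post_evT_conjHom]

theorem tng_cj_of_weight (t : R'ˣ) {x : WithConv (A →ₐ[R] DualNumber R')} (hx : post (dfst R R') x = 1) (m : ℤ)
    (hm : ∀ n a, tng x (wpr lam n a) = if n = m then tng x a else 0) (a : A) :
    tng (cj (lamAt lam t) x) a = ((t ^ m : R'ˣ) : R') * tng x a := by
  have hd : dlt (conjHom lam _ x) a = AddMonoidAlgebra.single m (inr (tng x a) : DualNumber R') := by
    refine eq_single_of_coeff fun n => ?_
    rw [coeff_dlt_conj]
    refine TrivSqZeroExt.ext ?_ ?_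
    · have h1 : (dlt x (wpr lam n a)).fst = 0 := map_dlt_eq_zero hx _
      rw [h1]
      split <;> simp
    · rw [dlt_snd, hm]
      split <;> simp
  rw [cj_lamAt]
  show (evT R _ ((conjHom lam _ x).ofConv a)).snd = _
  rw [show (conjHom lam (DualNumber R') x).ofConv a = dlt (conjHom lam _ x) a +
    algebraMap R (DualNumber R')[T;T⁻¹] (Coalgebra.counit (R := R) a) by rw [dlt_apply, sub_add_cancel], hd, map_add,
    evT_single, AlgHom.commutes, ← map_zpow, Units.coe_map]
  simp [TrivSqZeroExt.algebraMap_eq_inl', mul_comm]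

/-- A point tending to the identity other than the identity gives a tangent vector of positive weight. -/
theorem exists_weight_tangent {g : WithConv (A →ₐ[R] R')} (hg : Dyn.LimIsOne R A lam R' g.ofConv) (hne : g ≠ 1) :
    ∃ (m : ℕ) (x : WithConv (A →ₐ[R] DualNumber R')), 0 < m ∧ post (dfst R R') x = 1 ∧ x ≠ 1 ∧
      ∀ n a, tng x (wpr lam n a) = if n = (m : ℤ) then tng x a else 0 := by
  classical
  obtain ⟨h, hh, h0⟩ := (limIsOne_iff lam g.ofConv).mp hg
  rw [toConv_ofConv] at hh
  have hc : ∀ a (n : ℕ), (h.ofConv a).coeff n = g.ofConv (wpr lam (n : ℤ) a) := fun a n => by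
    rw [← coeff_toLaurent_natCast, ← coeff_conj]
    exact congrArg (fun z : WithConv (A →ₐ[R] R'[T;T⁻¹]) => (z.ofConv a).coeff (n : ℤ)) hh
  have hneg0 : ∀ a (n : ℤ), n < 0 → g.ofConv (wpr lam n a) = 0 := ((limIsOne_iff_wpr lam _).mp hg).1
  have hz : ∀ a, g.ofConv (wpr lam 0 a) = algebraMap R R' (Coalgebra.counit a) := ((limIsOne_iff_wpr lam _).mp hg).2
  have hex : ∃ m : ℕ, 0 < m ∧ ∃ a, g.ofConv (wpr lam (m : ℤ) a) ≠ 0 := by
    by_contra hno
    push Not at hno
    refine hne ?_
    have hd : ∀ n a, dlt g (wpr lam n a) = 0 := by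
      intro n a
      rw [dlt_apply, counit_wpr]
      rcases lt_trichotomy n 0 with h' | h' | h'
      · rw [hneg0 a n h', if_neg h'.ne]; simp
      · subst h'; rw [hz, if_pos rfl, sub_self]
      · obtain ⟨m, rfl⟩ := Int.eq_ofNat_of_zero_le h'.le
        rw [hno m (by omega) a, if_neg h'.ne']; simp
    refine eq_of_dlt_eq fun a => ?_
    have h1 : dlt (conjHom lam R' g) a = 0 := by
      ext n
      rw [coeff_dlt_conj, hd]; simp
    have h2 : dlt g a = ev1 R R' (dlt (conjHom lam R' g) a) := by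
      rw [dlt_apply, dlt_apply, map_sub, AlgHom.commutes]
      conv_lhs => rw [← ev1_conjHom lam g]
      rfl
    rw [h2, h1, map_zero, dlt_apply]
    simp [AlgHom.convOne_apply]
  obtain ⟨hm0, a₀, ha₀⟩ := Nat.find_spec hex
  set m := Nat.find hex with hmdef
  have hlow : ∀ i : ℕ, 0 < i → i < m → ∀ a, g.ofConv (wpr lam (i : ℤ) a) = 0 := fun i hi him a => by
    by_contra hne'
    exact Nat.find_min hex him ⟨hi, a, hne'⟩
  let δ : A →ₗ[R] R' := g.ofConv.toLinearMap ∘ₗ wpr lam (m : ℤ)
  have hδ : ∀ a b, δ (a * b) = algebraMap R R' (Coalgebra.counit a) * δ b + algebraMap R R' (Coalgebra.counit b) * δ a := by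
    intro a b
    show g.ofConv (wpr lam (m : ℤ) (a * b)) = _
    rw [← hc, map_mul, Polynomial.coeff_mul,
      Finset.sum_eq_add_of_mem (0, m) (m, 0) (by simp) (by simp) (by simp [hm0.ne]) ?_]
    · simp only [hc, Nat.cast_zero, hz]
      show _ = _ * g.ofConv (wpr lam (m : ℤ) b) + _ * g.ofConv (wpr lam (m : ℤ) a)
      ring
    · rintro ⟨i, j⟩ hij ⟨h1, h2⟩
      rw [Finset.mem_antidiagonal] at hij
      have hi : 0 < i := Nat.pos_of_ne_zero fun e => h1 (by subst e; simp_all)
      have hj : 0 < j := Nat.pos_of_ne_zero fun e => h2 (by subst e; simp_all)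
      rw [hc, hlow i hi (by omega), zero_mul]
  let x : WithConv (A →ₐ[R] DualNumber R') := toConv (AlgHom.ofLinearMap
    ((inlAlgHom R R' R').toLinearMap ∘ₗ (Algebra.linearMap R R') ∘ₗ Coalgebra.counit +
      (TrivSqZeroExt.inrHom R' R').restrictScalars R ∘ₗ δ)
    (by
      have h1 : δ 1 = 0 := by have := hδ 1 1; simpa [Bialgebra.counit_one] using this
      ext <;> simp [Bialgebra.counit_one, h1, TrivSqZeroExt.algebraMap_eq_inl, TrivSqZeroExt.algebraMap_eq_inl'])
    fun a a' => by
      ext <;> simp [Bialgebra.counit_mul, hδ, MulOpposite.smul_eq_mul_unop, MulOpposite.unop_op,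
        TrivSqZeroExt.algebraMap_eq_inl, TrivSqZeroExt.algebraMap_eq_inl']
      ring)
  have hxt : ∀ a, tng x a = g.ofConv (wpr lam (m : ℤ) a) := fun a => by
    simp [x, tng, δ, TrivSqZeroExt.algebraMap_eq_inl, TrivSqZeroExt.algebraMap_eq_inl']
  have hxk : post (dfst R R') x = 1 := by
    apply WithConv.ofConv_injective
    ext a
    rw [AlgHom.convOne_apply]
    show (_ : DualNumber R').fst = _
    simp [x, TrivSqZeroExt.algebraMap_eq_inl, TrivSqZeroExt.algebraMap_eq_inl']
  refine ⟨m, x, hm0, hxk, fun hx1 => ha₀ ?_, fun n a => ?_⟩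
  · rw [← hxt, hx1, tng_one]
  · rw [hxt, hxt, wpr_wpr]
    by_cases hmn : n = (m : ℤ)
    · subst hmn; simp
    · rw [if_neg (Ne.symm hmn), if_neg hmn, map_zero]

/-- If the adjoint matrices along a one-parameter subgroup are unipotent, no point tends to the identity. -/
theorem eq_one_of_unipotent {k : Type u} [Field k] [Infinite k] [Algebra R k] (D : AdData R A)
    (h : ∀ t : kˣ, IsNilpotent (D.hom k (lamAt lam t) - 1)) {g : WithConv (A →ₐ[R] k)}
    (hg : Dyn.LimIsOne R A lam k g.ofConv) : g = 1 := by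
  by_contra hne
  obtain ⟨m, x, hm, hxk, hx1, hw⟩ := exists_weight_tangent lam hg hne
  let v : Fin D.d → k := fun i => tng x (D.b i)
  have hv : v ≠ 0 := fun h0 => hx1 (D.eq_one k x hxk (congrFun h0))
  have hroot : ∀ t : k, t ≠ 0 → (t : k) ^ m = 1 := by
    intro t ht
    let u := Units.mk0 t ht
    have h1 : (D.hom k (lamAt lam u) - 1) *ᵥ v = (t ^ m - 1) • v := by
      rw [Matrix.sub_mulVec, Matrix.one_mulVec, sub_smul, one_smul]
      congr 1
      show D.P.map (lamAt lam u).ofConv *ᵥ v = _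
      rw [D.mulVec_tng k _ x hxk]
      funext i
      rw [tng_cj_of_weight lam u hxk _ hw, Units.val_zpow_eq_zpow_val, zpow_natCast]
      rfl
    obtain ⟨N, hN⟩ := h u
    have h2 : ∀ j : ℕ, ((D.hom k (lamAt lam u) - 1) ^ j) *ᵥ v = (t ^ m - 1) ^ j • v := by
      intro j
      induction j with
      | zero => simp
      | succ j ih => rw [pow_succ, ← Matrix.mulVec_mulVec, h1, Matrix.mulVec_smul, ih, smul_smul, pow_succ']
    have h3 := h2 N
    rw [hN, Matrix.zero_mulVec] at h3
    exact sub_eq_zero.mp (pow_eq_zero_iff'.mp ((smul_eq_zero.mp h3.symm).resolve_right hv)).1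
  have h4 : (Polynomial.X ^ m - Polynomial.C (1 : k)) = 0 := by
    refine Polynomial.eq_zero_of_infinite_isRoot _ ((Set.finite_singleton (0 : k)).infinite_compl.mono ?_)
    intro t ht
    simp [Polynomial.IsRoot, hroot t ht]
  exact Polynomial.X_pow_sub_C_ne_zero hm 1 h4

end Groth.Agent.RedOpenLib
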