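import Groth.Agent.GrpSchLib.BCPoints
import Groth.Agent.GModLib.PtSubgroup
import Groth.Agent.RedOpenLib.Weights

/-!
# Rational points of a geometric fibre of an affine group
-/

set_option autoImplicit false
set_option linter.style.haveILetI false
set_option backward.isDefEq.respectTransparency false
set_option backward.isDefEq.respectTransparency.types false

universe u

open CategoryTheory CategoryTheory.Limits MonoidalCategory CartesianMonoidalCategory MonObj GrpObj AlgebraicGeometry
open WithConv
open scoped Groth.Agent.DynLib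

namespace Groth.Agent.RedOpenLib

open GrpSchLib GrpSchLib.Kunneth GrpSchLib.AffineHopf GModLib

variable (R : Type u) [CommRing R] (A : Type u) [CommRing A] [HopfAlgebra R A] (k : Type u) [Field k] [Algebra R k]

/-- The fibre of the group of a Hopf algebra at a field valued point of the base. -/
noncomputable abbrev fib : Over (Spec (CommRingCat.of k)) :=
  Red.bc (Spec.map (CommRingCat.ofHom (algebraMap R k))) (sp R A)

/-- The points of the fibre as algebra maps. -/
noncomputable def ptEquiv : WithConv (A →ₐ[R] k) ≃* (VecGrp.pt k k ⟶ fib R A k) :=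
  MulEquiv.ofBijective (toBcHom (R := R) (S := k) (A := A) (C := k))
    ⟨fun _ _ h => WithConv.ofConv_injective (toBc_injective h), fun x => by
      obtain ⟨f, rfl⟩ := exists_eq_toBc (R := R) (S := k) (A := A) (C := k) x
      exact ⟨toConv f, rfl⟩⟩

theorem ptEquiv_fst (g : WithConv (A →ₐ[R] k)) :
    (ptEquiv R A k g).left ≫ pullback.fst _ _ = Spec.map (CommRingCat.ofHom g.ofConv.toRingHom) :=
  toBc_fst g.ofConv

/-- Functions of the group give functions on the fibre. -/
noncomputable def incl : A →+* Fn (fib R A k) :=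
  ((Scheme.ΓSpecIso (CommRingCat.of A)).inv ≫
    (pullback.fst (sp R A).hom (Spec.map (CommRingCat.ofHom (algebraMap R k)))).appTop).hom

theorem pullFn_incl (g : WithConv (A →ₐ[R] k)) (a : A) :
    pullFn (ptEquiv R A k g) (incl R A k a) = g.ofConv a := by
  show ((Scheme.ΓSpecIso (CommRingCat.of A)).inv ≫ (pullback.fst _ _ : _ ⟶ Spec (CommRingCat.of A)).appTop ≫
    (ptEquiv R A k g).left.appTop ≫ (Scheme.ΓSpecIso (CommRingCat.of k)).hom) a = _
  rw [← Category.assoc (Scheme.Hom.appTop _) _ _, ← Scheme.Hom.comp_appTop, ptEquiv_fst, Scheme.ΓSpecIso_naturality,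
    Iso.inv_hom_id_assoc]
  rfl

/-- The point of the spectrum given by a point of the fibre. -/
noncomputable def basePt (g : WithConv (A →ₐ[R] k)) : ↥(Spec (CommRingCat.of A)) :=
  Spec.map (CommRingCat.ofHom g.ofConv.toRingHom) (IsLocalRing.closedPoint k)

theorem fst_ptEquiv (g : WithConv (A →ₐ[R] k)) :
    (pullback.fst (sp R A).hom _ : (fib R A k).left ⟶ Spec (CommRingCat.of A))
      ((ptEquiv R A k g).left (IsLocalRing.closedPoint k)) = basePt R A k g := by
  exact (Scheme.Hom.comp_apply (ptEquiv R A k g).left _ _).symm.trans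
    (congrArg (fun f : Spec (CommRingCat.of k) ⟶ Spec (CommRingCat.of A) => f (IsLocalRing.closedPoint k)) (ptEquiv_fst R A k g))

theorem basePt_asIdeal (g : WithConv (A →ₐ[R] k)) (a : A) :
    a ∈ (basePt R A k g).asIdeal ↔ g.ofConv a = 0 := by
  show g.ofConv a ∈ IsLocalRing.maximalIdeal k ↔ _
  simp

variable {R A k} [IsAlgClosed k]

/-- A function vanishing at the points of a nonempty open set of a connected subgroup vanishes at all points. -/
theorem eq_zero_of_open {D : Over (Spec (CommRingCat.of k))} [GrpObj D] [IsAffine D.left] [Smooth D.hom]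
    [ConnectedSpace D.left] {O : Set D.left} (hO : IsOpen O) (hne : O.Nonempty) (F : Fn D)
    (h : ∀ q : VecGrp.pt k k ⟶ D, q.left (IsLocalRing.closedPoint k) ∈ O → pullFn q F = 0)
    (q : VecGrp.pt k k ⟶ D) : pullFn q F = 0 := by
  by_contra hq
  haveI : IrreducibleSpace D.left := GrpFieldLib.SmoothDense.irreducibleSpace_of_connected D.hom
  obtain ⟨x, hx1, hx2⟩ := nonempty_preirreducible_inter hO (D.left.basicOpen F).isOpen hne
    ⟨_, (mem_basicOpen_iff q F).mpr hq⟩
  obtain ⟨p, hp1, hp2⟩ := exists_point_mem (hO.inter (D.left.basicOpen F).isOpen) ⟨x, hx1, hx2⟩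
  exact (mem_basicOpen_iff p F).mp hp2 (h p hp1)

end Groth.Agent.RedOpenLib
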