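import Groth.Agent.RedOpenLib.QuasiFinitePts

/-!
# The reductive locus of a group with a self-centralizing split torus is open
-/

set_option autoImplicit false
set_option linter.style.haveILetI false
set_option backward.isDefEq.respectTransparency false
set_option backward.isDefEq.respectTransparency.types false

universe u

open CategoryTheory CategoryTheory.Limits MonoidalCategory CartesianMonoidalCategory MonObj GrpObj AlgebraicGeometry
open LaurentPolynomial TensorProduct WithConv
open scoped Groth.Agent.DynLib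

namespace Groth.Agent.RedOpenLib

open DynLib DynSm GrpSchLib GrpSchLib.Kunneth GrpSchLib.AffineHopf GModLib

variable {R : Type u} [CommRing R] {A : Type u} [CommRing A] [HopfAlgebra R A]

/-- Conjugation by a fixed point preserves the points tending to one. -/
theorem limIsOne_conj (lam : A →ₐc[R] R[T;T⁻¹]) {k : Type u} [CommRing k] [Algebra R k]
    {ℓ g : WithConv (A →ₐ[R] k)} (hℓ : conjHom lam k ℓ = post (con R k) ℓ)
    (hg : Dyn.LimIsOne R A lam k g.ofConv) : Dyn.LimIsOne R A lam k (ℓ * g * ℓ⁻¹).ofConv := by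
  obtain ⟨h, hh, h0⟩ := (limIsOne_iff lam _).mp hg
  let C : k →ₐ[R] Polynomial k := IsScalarTower.toAlgHom R k (Polynomial k)
  have h1 : post (toL R k) (post C ℓ) = post (con R k) ℓ := by
    apply WithConv.ofConv_injective
    refine AlgHom.ext fun a => ?_
    exact Polynomial.toLaurent_C _
  have h2 : post (ev0 R k) (post C ℓ) = ℓ := by
    apply WithConv.ofConv_injective
    refine AlgHom.ext fun a => ?_
    exact Polynomial.aeval_C _ _
  refine (limIsOne_iff lam _).mpr ⟨post C ℓ * h * (post C ℓ)⁻¹, ?_, ?_⟩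
  · rw [toConv_ofConv, _root_.map_mul, _root_.map_mul, map_inv, h1, hh, toConv_ofConv, _root_.map_mul,
      _root_.map_mul, map_inv, hℓ]
  · rw [_root_.map_mul, _root_.map_mul, map_inv, h2, h0, _root_.mul_one, mul_inv_cancel]

/-- The unit section of a point of the base. -/
theorem basePt_one {k : Type u} [Field k] [Algebra R k] :
    (basePt R A k 1 : PrimeSpectrum A) = PrimeSpectrum.comap (Bialgebra.counitAlgHom R A).toRingHom
      ⟨RingHom.ker (algebraMap R k), RingHom.ker_isPrime _⟩ := by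
  refine PrimeSpectrum.ext (Ideal.ext fun a => ?_)
  rw [basePt_asIdeal, AlgHom.convOne_apply]
  rfl

/-- A curve through the identity in a scheme quasi-finite there is constant. -/
theorem eq_one_of_curve {k : Type u} [Field k] [Algebra R k] (I : Ideal A) (h : WithConv (A →ₐ[R] Polynomial k))
    (hI : ∀ a ∈ I, h.ofConv a = 0) (h0 : post (ev0 R k) h = 1)
    (hqf : ∀ Q : PrimeSpectrum (A ⧸ I), PrimeSpectrum.comap (Ideal.Quotient.mk I) Q = (basePt R A k 1 : PrimeSpectrum A) →
      Algebra.QuasiFiniteAt R Q.asIdeal) (c : k) :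
    post ((Polynomial.aeval c).restrictScalars R) h = 1 := by
  let hC : A ⧸ I →ₐ[R] Polynomial k := Ideal.Quotient.liftₐ I h.ofConv hI
  let P₁ : PrimeSpectrum (A ⧸ I) := ⟨RingHom.ker hC.toRingHom, RingHom.ker_isPrime _⟩
  let P₀ : PrimeSpectrum (A ⧸ I) := ⟨RingHom.ker ((ev0 R k).comp hC).toRingHom, RingHom.ker_isPrime _⟩
  have e0 : ∀ a, (ev0 R k) (h.ofConv a) = (1 : WithConv (A →ₐ[R] k)).ofConv a := fun a =>
    DFunLike.congr_fun (congrArg WithConv.ofConv h0) a
  have hP₀ : PrimeSpectrum.comap (Ideal.Quotient.mk I) P₀ = (basePt R A k 1 : PrimeSpectrum A) := by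
    refine PrimeSpectrum.ext (Ideal.ext fun a => ?_)
    rw [basePt_asIdeal, ← e0]
    rfl
  haveI := hqf P₀ hP₀
  haveI : P₁.asIdeal.IsPrime := P₁.isPrime
  haveI : P₀.asIdeal.IsPrime := P₀.isPrime
  have hle : P₁.asIdeal ≤ P₀.asIdeal := fun x hx => by
    show (ev0 R k) (hC x) = 0
    rw [show hC x = 0 from hx, map_zero]
  have hund : P₁.asIdeal.under R = P₀.asIdeal.under R := Ideal.ext fun x => by
    show hC (algebraMap R (A ⧸ I) x) = 0 ↔ (ev0 R k) (hC (algebraMap R (A ⧸ I) x)) = 0
    rw [AlgHom.commutes, AlgHom.commutes, IsScalarTower.algebraMap_apply R k (Polynomial k), Polynomial.algebraMap_eq,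
      Polynomial.C_eq_zero]
  have heq := Algebra.QuasiFiniteAt.eq_of_le_of_under_eq (R := R) hle hund
  apply WithConv.ofConv_injective
  refine AlgHom.ext fun a => ?_
  have hker : Ideal.Quotient.mk I (a - algebraMap R A (Coalgebra.counit a)) ∈ P₀.asIdeal := by
    show (ev0 R k) (h.ofConv (a - algebraMap R A (Coalgebra.counit a))) = 0
    rw [map_sub, map_sub, e0, AlgHom.commutes, AlgHom.commutes, AlgHom.convOne_apply, sub_self]
  rw [← heq] at hker
  have h1 : h.ofConv a = algebraMap R (Polynomial k) (Coalgebra.counit a) := by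
    have h2 : h.ofConv (a - algebraMap R A (Coalgebra.counit a)) = 0 := hker
    rwa [map_sub, AlgHom.commutes, sub_eq_zero] at h2
  show Polynomial.aeval c (h.ofConv a) = _
  rw [h1, AlgHom.convOne_apply]
  exact AlgHom.commutes ((Polynomial.aeval c).restrictScalars R) _

variable {r : ℕ} (φ : A →ₐc[R] MonoidAlgebra R (Multiplicative (Fin r → ℤ)))

/-- The cocharacters along the coordinates and their inverses. -/
noncomputable def lamB (p : Fin r × Bool) : A →ₐc[R] R[T;T⁻¹] :=
  bif p.2 then negLam (cochar φ p.1) else cochar φ p.1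

theorem lamAt_lamB {k : Type u} [Field k] [Algebra R k] (p : Fin r × Bool) (s : kˣ) :
    ∃ x, lamAt (lamB φ p) s = tpt φ x := by
  obtain ⟨l, _ | _⟩ := p
  · exact ⟨_, lamAt_cochar φ l s⟩
  · exact ⟨_, (lamAt_negLam (cochar φ l) s).trans (lamAt_cochar φ l s⁻¹)⟩

variable [IsMonHom (spMap (φ : A →ₐ[R] MonoidAlgebra R (Multiplicative (Fin r → ℤ))))]

/-- Points of the torus are fixed by its cocharacters. -/
theorem conjHom_lamAt {k : Type u} [Field k] [IsAlgClosed k] [Algebra R k] (p : Fin r × Bool) (t : kˣ) :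
    conjHom (lamB φ p) k (lamAt (lamB φ p) t) = post (con R k) (lamAt (lamB φ p) t) := by
  refine conjHom_eq_con_of_commute _ fun s => ?_
  obtain ⟨x, hx⟩ := lamAt_lamB φ p s
  obtain ⟨y, hy⟩ := lamAt_lamB φ p t
  rw [hx, hy, ← tpt_mul, ← tpt_mul, _root_.mul_comm]

/-- In a fibre where the attracting nil loci are quasi-finite at the identity there is no nontrivial moving curve. -/
theorem eq_one_of_tending [Algebra.Smooth R A] (D : AdData R A) {k : Type u} [Field k] [IsAlgClosed k] [Algebra R k]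
    (Y : Set (PrimeSpectrum A)) (hY : ∀ g : WithConv (A →ₐ[R] k), (basePt R A k g : PrimeSpectrum A) ∈ Y ↔ NilAt D g)
    (p : Fin r × Bool)
    (hqf : ∀ Q : PrimeSpectrum (A ⧸ (idealU (lamB φ p) ⊔ PrimeSpectrum.vanishingIdeal Y)),
      PrimeSpectrum.comap (Ideal.Quotient.mk _) Q = (basePt R A k 1 : PrimeSpectrum A) →
        Algebra.QuasiFiniteAt R Q.asIdeal)
    {w : WithConv (A →ₐ[R] k)} (hw : Dyn.LimIsOne R A (lamB φ p) k w.ofConv)
    (hnil : ∀ t : kˣ, NilAt D (lamAt (lamB φ p) t * w * (lamAt (lamB φ p) t)⁻¹)) : w = 1 := by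
  set lam := lamB φ p with hlam
  obtain ⟨h, hh, h0⟩ := (limIsOne_iff lam _).mp hw
  rw [toConv_ofConv] at hh
  have heval : ∀ t : kˣ, post ((Polynomial.aeval (t : k)).restrictScalars R) h =
      lamAt lam t * w * (lamAt lam t)⁻¹ := fun t => (conj_lamAt_eq_eval lam t hh).symm
  have hI : ∀ a ∈ idealU lam ⊔ PrimeSpectrum.vanishingIdeal Y, h.ofConv a = 0 := by
    intro a ha
    refine Polynomial.eq_zero_of_infinite_isRoot _ ((Set.finite_singleton (0 : k)).infinite_compl.mono ?_)
    intro t ht
    have ht0 : t ≠ 0 := ht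
    show (h.ofConv a).eval t = 0
    set g := lamAt lam (Units.mk0 t ht0) * w * (lamAt lam (Units.mk0 t ht0))⁻¹ with hg
    have h1 : g.ofConv a = (h.ofConv a).eval t := by
      rw [hg, ← heval]
      exact Polynomial.coe_aeval_eq_eval t ▸ rfl
    rw [← h1]
    have hle : idealU lam ⊔ PrimeSpectrum.vanishingIdeal Y ≤ RingHom.ker g.ofConv.toRingHom := by
      refine sup_le (fun x hx => ?_) fun x hx => ?_
      · exact (represents_idealU lam k g.ofConv).mpr (limIsOne_conj lam (conjHom_lamAt φ p _) hw) x hx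
      · exact (basePt_asIdeal R A k g x).mp ((PrimeSpectrum.mem_vanishingIdeal Y x).mp hx _ ((hY g).mpr (hnil _)))
    exact hle ha
  have h1 := eq_one_of_curve _ h hI h0 hqf (1 : k)
  have h2 := heval 1
  rw [Units.val_one, h1] at h2
  have h3 : lamAt lam (1 : kˣ) = 1 := lamAt_one lam
  rw [h3, _root_.one_mul, inv_one, _root_.mul_one] at h2
  exact h2.symm

/-- The locus of points of the base with reductive geometric fibre is open. -/
theorem exists_open_reductive [Algebra.Smooth R A]
    (ht : Red.IsCentralizerOf (spMap (φ : A →ₐ[R] MonoidAlgebra R (Multiplicative (Fin r → ℤ))))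
      (spMap (φ : A →ₐ[R] MonoidAlgebra R (Multiplicative (Fin r → ℤ)))))
    (hφ : Function.Surjective φ) :
    ∃ W : Set (PrimeSpectrum R), IsOpen W ∧ ∀ (k : Type u) [Field k] [IsAlgClosed k] [Algebra R k]
      [ConnectedSpace (fib R A k).left],
      ((⟨RingHom.ker (algebraMap R k), RingHom.ker_isPrime _⟩ : PrimeSpectrum R) ∈ W ↔
        Red.IsReductiveOver k (fib R A k)) := by
  classical
  obtain ⟨D⟩ := exists_adData (R := R) (A := A)
  obtain ⟨Y, hYc, hY⟩ := exists_nilSet D
  let I : Fin r × Bool → Ideal A := fun p => idealU (lamB φ p) ⊔ PrimeSpectrum.vanishingIdeal Y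
  let bad : Fin r × Bool → Set (PrimeSpectrum A) := fun p =>
    PrimeSpectrum.comap (Ideal.Quotient.mk (I p)) '' {Q | ¬Algebra.QuasiFiniteAt R Q.asIdeal}
  have hbad : ∀ p, IsClosed (bad p) := fun p =>
    (PrimeSpectrum.isClosedEmbedding_comap_of_surjective _ _ Ideal.Quotient.mk_surjective).isClosedMap _
      (isOpen_quasiFiniteAt (R := R) (C := A ⧸ I p)).isClosed_compl
  refine ⟨⋂ p, PrimeSpectrum.comap (Bialgebra.counitAlgHom R A).toRingHom ⁻¹' (bad p)ᶜ,
    isOpen_iInter_of_finite fun p => (hbad p).isOpen_compl.preimage (PrimeSpectrum.continuous_comap (Bialgebra.counitAlgHom R A).toRingHom),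
    fun k _ _ _ _ => ?_⟩
  rw [Set.mem_iInter]
  simp only [Set.mem_preimage, Set.mem_compl_iff, ← basePt_one]
  haveI := isAffine_fib (R := R) (A := A) (k := k)
  haveI := smooth_fib (R := R) (A := A) (k := k)
  constructor
  · intro hb
    have hqf : ∀ p (Q : PrimeSpectrum (A ⧸ I p)),
        PrimeSpectrum.comap (Ideal.Quotient.mk (I p)) Q = (basePt R A k 1 : PrimeSpectrum A) →
          Algebra.QuasiFiniteAt R Q.asIdeal := fun p Q hQ => by_contra fun hn => hb p ⟨Q, hn, hQ⟩
    refine ⟨‹_›, ‹_›, ‹_›, fun U _ u _ hu hUs hUc hn hno => ?_⟩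
    haveI := hu; haveI := hUs; haveI := hUc
    haveI : IsAffine U.left := isAffine_of_isAffineHom u.left
    haveI : Mono u := Over.mono_of_mono_left u
    refine isTrivialGrp_of_fixed φ ht hφ u hno fun l q => ?_
    rcases exists_tending_or_fixed D (cochar φ l) u hn hno with h | ⟨w, hw1, h | h⟩
    · exact h q
    · exact absurd (eq_one_of_tending φ D Y (hY k) (l, false) (hqf _) h.1 h.2) hw1
    · exact absurd (eq_one_of_tending φ D Y (hY k) (l, true) (hqf _) h.1 h.2) hw1
  · rintro hred p ⟨Q, hQ, hQb⟩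
    refine hQ ?_
    haveI : Finite ((A ⧸ I p) →ₐ[R] k) := by
      haveI := (finite_nilAt D hred (lamB φ p)).to_subtype
      refine Finite.of_injective (fun χ : (A ⧸ I p) →ₐ[R] k =>
        (⟨toConv (χ.comp (Ideal.Quotient.mkₐ R (I p))), ?_, ?_⟩ :
          {g : WithConv (A →ₐ[R] k) | Dyn.LimIsOne R A (lamB φ p) k g.ofConv ∧ NilAt D g})) ?_
      · refine (represents_idealU (lamB φ p) k _).mp fun a ha => ?_
        show χ (Ideal.Quotient.mk (I p) a) = 0
        rw [Ideal.Quotient.eq_zero_iff_mem.mpr (Ideal.mem_sup_left ha), map_zero]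
      · refine (hY k _).mp ?_
        rw [← hYc.closure_eq, ← PrimeSpectrum.zeroLocus_vanishingIdeal_eq_closure, PrimeSpectrum.mem_zeroLocus]
        intro a ha
        refine (basePt_asIdeal R A k _ a).mpr ?_
        show χ (Ideal.Quotient.mk (I p) a) = 0
        rw [Ideal.Quotient.eq_zero_iff_mem.mpr (Ideal.mem_sup_right ha), map_zero]
      · intro χ χ' h
        refine Ideal.Quotient.algHom_ext R ?_
        exact congrArg WithConv.ofConv (congrArg Subtype.val h)
    refine quasiFiniteAt_of_finite_points (k := k) Q ?_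
    have h1 := congrArg (fun P : PrimeSpectrum A => P.asIdeal.comap (algebraMap R A)) hQb
    refine h1.trans (Ideal.ext fun x => ?_)
    rw [Ideal.mem_comap, basePt_asIdeal, AlgHom.commutes]
    rfl

end Groth.Agent.RedOpenLib
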