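import Groth.Agent.RedOpenLib.Torus
import Mathlib.RingTheory.Spectrum.Prime.Chevalley
import Mathlib.RingTheory.Jacobson.Ring
import Mathlib.LinearAlgebra.Matrix.Charpoly.Coeff

/-!
# The closed set of points acting nilpotently modulo one
-/

set_option autoImplicit false
set_option linter.style.haveILetI false
set_option backward.isDefEq.respectTransparency false
set_option backward.isDefEq.respectTransparency.types false

universe u

open TensorProduct WithConv AlgebraicGeometry

namespace Groth.Agent.RedOpenLib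

open DynLib DynSm

variable {R : Type u} [CommRing R] {A : Type u} [CommRing A] [HopfAlgebra R A]

variable (R A) in
/-- An algebra carrying finitely many generic points and generic scalars. -/
theorem exists_generic [Algebra.Smooth R A] (n : ℕ) :
    ∃ (P : Type u) (_ : CommRing P) (_ : Algebra R P), Module.Flat R P ∧ Algebra.FinitePresentation R P ∧
      ∃ (h : Fin n → (A →ₐ[R] P)) (c : Fin n → P), ∀ (k : Type u) [Field k] [Algebra R k] (g : Fin n → (A →ₐ[R] k))
        (v : Fin n → k), ∃ Φ : P →ₐ[R] k, ∀ i, Φ.comp (h i) = g i ∧ Φ (c i) = v i := by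
  induction n with
  | zero =>
    exact ⟨R, inferInstance, inferInstance, inferInstance, inferInstance, Fin.elim0, Fin.elim0,
      fun k _ _ g v => ⟨Algebra.ofId R k, fun i => Fin.elim0 i⟩⟩
  | succ n ih =>
    obtain ⟨P, _, _, hflat, hfp, h, c, hP⟩ := ih
    haveI : Algebra.FinitePresentation R (Polynomial R) := inferInstance
    haveI : Module.Flat R A := Algebra.Smooth.flat R A
    haveI : Algebra.FinitePresentation R (A ⊗[R] P) := Algebra.FinitePresentation.trans R A (A ⊗[R] P)
    let P' := (A ⊗[R] P) ⊗[R] Polynomial R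
    haveI : Algebra.FinitePresentation R P' := Algebra.FinitePresentation.trans R (A ⊗[R] P) P'
    let iP : P →ₐ[R] P' := (Algebra.TensorProduct.includeLeft (S := R)).comp Algebra.TensorProduct.includeRight
    refine ⟨P', inferInstance, inferInstance, inferInstance, inferInstance,
      Fin.cons ((Algebra.TensorProduct.includeLeft (S := R)).comp (Algebra.TensorProduct.includeLeft (S := R)))
        (fun i => iP.comp (h i)),
      Fin.cons ((1 : A ⊗[R] P) ⊗ₜ[R] Polynomial.X) (fun i => iP (c i)), fun k _ _ g v => ?_⟩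
    obtain ⟨Φ, hΦ⟩ := hP k (fun i => g i.succ) (fun i => v i.succ)
    refine ⟨Algebra.TensorProduct.lift (Algebra.TensorProduct.lift (g 0) Φ fun _ _ => Commute.all _ _)
      (Polynomial.aeval (v 0)) fun _ _ => Commute.all _ _, fun i => ?_⟩
    cases i using Fin.cases with
    | zero =>
      refine ⟨AlgHom.ext fun a => ?_, ?_⟩
      · show (Algebra.TensorProduct.lift (Algebra.TensorProduct.lift (g 0) Φ fun _ _ => Commute.all _ _)
          (Polynomial.aeval (v 0)) fun _ _ => Commute.all _ _) ((a ⊗ₜ[R] (1 : P)) ⊗ₜ[R] (1 : Polynomial R)) = _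
        rw [Algebra.TensorProduct.lift_tmul, Algebra.TensorProduct.lift_tmul, map_one, map_one, _root_.mul_one, _root_.mul_one]
      · show (Algebra.TensorProduct.lift (Algebra.TensorProduct.lift (g 0) Φ fun _ _ => Commute.all _ _)
          (Polynomial.aeval (v 0)) fun _ _ => Commute.all _ _) (((1 : A) ⊗ₜ[R] (1 : P)) ⊗ₜ[R] (Polynomial.X : Polynomial R)) = _
        rw [Algebra.TensorProduct.lift_tmul, Algebra.TensorProduct.lift_tmul, map_one, map_one, _root_.mul_one,
          _root_.one_mul, Polynomial.aeval_X]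
    | succ i =>
      refine ⟨AlgHom.ext fun a => ?_, ?_⟩
      · have e := DFunLike.congr_fun (hΦ i).1 a
        simp only [AlgHom.comp_apply] at e
        simp only [Fin.cons_succ, AlgHom.comp_apply]
        show (Algebra.TensorProduct.lift (Algebra.TensorProduct.lift (g 0) Φ fun _ _ => Commute.all _ _)
          (Polynomial.aeval (v 0)) fun _ _ => Commute.all _ _) (((1 : A) ⊗ₜ[R] h i a) ⊗ₜ[R] (1 : Polynomial R)) = _
        rw [Algebra.TensorProduct.lift_tmul, Algebra.TensorProduct.lift_tmul, map_one, map_one, _root_.one_mul, _root_.mul_one, e]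
      · simp only [Fin.cons_succ]
        show (Algebra.TensorProduct.lift (Algebra.TensorProduct.lift (g 0) Φ fun _ _ => Commute.all _ _)
          (Polynomial.aeval (v 0)) fun _ _ => Commute.all _ _) (((1 : A) ⊗ₜ[R] c i) ⊗ₜ[R] (1 : Polynomial R)) = _
        rw [Algebra.TensorProduct.lift_tmul, Algebra.TensorProduct.lift_tmul, map_one, map_one, _root_.one_mul, _root_.mul_one, (hΦ i).2]

/-- A non-nilpotent element of a finitely generated algebra is nonzero at some rational point. -/
theorem exists_point_ne_zero {k : Type u} [Field k] [IsAlgClosed k] {B : Type u} [CommRing B] [Algebra k B]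
    [Algebra.FiniteType k B] {f : B} (hf : ¬IsNilpotent f) : ∃ χ : B →ₐ[k] k, χ f ≠ 0 := by
  haveI : IsJacobsonRing B := isJacobsonRing_of_finiteType (A := k)
  have h1 : f ∉ (⊥ : Ideal B).radical.jacobson := by
    rw [IsJacobsonRing.out ‹IsJacobsonRing B› (Ideal.radical_isRadical _)]
    rwa [← mem_nilradical] at hf
  rw [Ideal.jacobson, Submodule.mem_sInf] at h1
  push Not at h1
  obtain ⟨m, ⟨-, hm⟩, hfm⟩ := h1
  haveI := hm
  letI := Ideal.Quotient.field m
  haveI : Algebra.FiniteType k (B ⧸ m) := .of_surjective (Ideal.Quotient.mkₐ k m) Ideal.Quotient.mk_surjective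
  haveI : Module.Finite k (B ⧸ m) := finite_of_finite_type_of_isJacobsonRing k (B ⧸ m)
  let e : k ≃ₐ[k] (B ⧸ m) := AlgEquiv.ofBijective (Algebra.ofId k (B ⧸ m))
    IsAlgClosed.algebraMap_bijective_of_isIntegral
  refine ⟨e.symm.toAlgHom.comp (Ideal.Quotient.mkₐ k m), fun h0 => hfm ?_⟩
  have h2 : (Ideal.Quotient.mkₐ k m) f = 0 := e.symm.injective (by rw [map_zero]; exact h0)
  exact Ideal.Quotient.eq_zero_iff_mem.mp h2

/-- The closed set of points acting nilpotently modulo one. -/
theorem exists_nilSet [Algebra.Smooth R A] (D : AdData R A) :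
    ∃ Y : Set (PrimeSpectrum A), IsClosed Y ∧ ∀ (k : Type u) [Field k] [IsAlgClosed k] [Algebra R k]
      (g : WithConv (A →ₐ[R] k)), (basePt R A k g : PrimeSpectrum A) ∈ Y ↔ NilAt D g := by
  classical
  obtain ⟨P, _, _, hflat, hfp, h, c, hP⟩ := exists_generic R A (D.d * D.d)
  haveI := hflat; haveI := hfp
  let ιL : A →ₐ[R] A ⊗[R] P := Algebra.TensorProduct.includeLeft
  let ιR : P →ₐ[R] A ⊗[R] P := Algebra.TensorProduct.includeRight
  let N : Matrix (Fin D.d) (Fin D.d) (A ⊗[R] P) :=
    (D.P.map ιL - 1) * ∑ i, ιR (c i) • D.P.map (ιR.comp (h i))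
  let O : Set (PrimeSpectrum A) := PrimeSpectrum.comap (algebraMap A (A ⊗[R] P)) ''
    ⋃ m : Fin D.d, (PrimeSpectrum.basicOpen (N.charpoly.coeff m.1) : Set (PrimeSpectrum (A ⊗[R] P)))
  have hO : IsOpen O := PrimeSpectrum.isOpenMap_comap_of_hasGoingDown_of_finitePresentation (R := A)
    (S := A ⊗[R] P) _ (isOpen_iUnion fun m => (PrimeSpectrum.basicOpen _).isOpen)
  refine ⟨Oᶜ, hO.isClosed_compl, fun k _ _ _ g => ⟨fun hg a ha => ?_, fun hg => ?_⟩⟩
  · -- points outside the image act nilpotently
    let S := Submodule.span k (Set.range (D.hom k))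
    obtain ⟨f, hf, hspan, -⟩ := Submodule.exists_fun_fin_finrank_span_eq k (Set.range (D.hom k))
    have hle : Module.finrank k S ≤ D.d * D.d := by
      refine (Submodule.finrank_le S).trans ?_
      rw [Module.finrank_matrix, Module.finrank_self, Fintype.card_fin, Nat.mul_one]
    obtain ⟨w, hw⟩ := (Submodule.mem_span_range_iff_exists_fun k).mp (hspan.symm ▸ ha : a ∈ Submodule.span k (Set.range f))
    choose g' hg' using hf
    let gs : Fin (D.d * D.d) → (A →ₐ[R] k) := fun i =>
      if hi : i.1 < Module.finrank k S then (g' ⟨i.1, hi⟩).ofConv else g.ofConv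
    let vs : Fin (D.d * D.d) → k := fun i => if hi : i.1 < Module.finrank k S then w ⟨i.1, hi⟩ else 0
    obtain ⟨Φ, hΦ⟩ := hP k gs vs
    let Ψ : A ⊗[R] P →ₐ[R] k := Algebra.TensorProduct.lift g.ofConv Φ fun _ _ => Commute.all _ _
    have hN : N.map Ψ = (D.hom k g - 1) * a := by
      have e1 : (D.P.map ιL).map Ψ = D.hom k g := by
        ext i j
        simp [ιL, Ψ, AdData.hom_apply]
      have e2 : (∑ i, ιR (c i) • D.P.map (ιR.comp (h i))).map Ψ = a := by
        rw [show (∑ i, ιR (c i) • D.P.map (ιR.comp (h i))).map Ψ =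
          ∑ i, vs i • D.P.map (gs i) by
            ext p q
            simp only [Matrix.map_apply, Matrix.sum_apply, Matrix.smul_apply, map_sum, smul_eq_mul, map_mul]
            refine Finset.sum_congr rfl fun i _ => ?_
            simp [ιR, Ψ, (hΦ i).2, ← (hΦ i).1]]
        rw [← hw]
        symm
        refine Fintype.sum_of_injective (Fin.castLE hle) (Fin.castLE_injective hle) _ _ (fun i hi => ?_) fun i => ?_
        · have hi' : ¬i.1 < Module.finrank k S := fun hlt => hi ⟨⟨i.1, hlt⟩, rfl⟩
          simp [vs, hi']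
        · simp only [vs, gs, Fin.val_castLE, i.2, dite_true, Fin.eta]
          rw [← hg']
          rfl
      rw [← e2, ← e1]
      show N.map (Ψ : A ⊗[R] P →+* k) = ((D.P.map ιL).map (Ψ : A ⊗[R] P →+* k) - 1) * Matrix.map _ (Ψ : A ⊗[R] P →+* k)
      rw [Matrix.map_mul, Matrix.map_sub _ (map_sub _), Matrix.map_one _ (map_zero _) (map_one _)]
    have hcoeff : ∀ m : Fin D.d, Ψ (N.charpoly.coeff m.1) = 0 := by
      intro m
      by_contra hne
      refine hg ⟨(⟨RingHom.ker Ψ.toRingHom, RingHom.ker_isPrime _⟩ : PrimeSpectrum _),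
        Set.mem_iUnion.mpr ⟨m, hne⟩, ?_⟩
      refine PrimeSpectrum.ext (Ideal.ext fun b => ?_)
      rw [basePt_asIdeal]
      show Ψ (b ⊗ₜ[R] 1) = 0 ↔ g.ofConv b = 0
      simp [Ψ]
    have hX : (N.map Ψ).charpoly = Polynomial.X ^ D.d := by
      rw [show N.map Ψ = N.map (Ψ : A ⊗[R] P →+* k) from rfl, Matrix.charpoly_map]
      ext m
      rw [Polynomial.coeff_map, Polynomial.coeff_X_pow]
      rcases lt_trichotomy m D.d with hm | hm | hm
      · rw [if_neg hm.ne]
        exact hcoeff ⟨m, hm⟩
      · rw [if_pos hm, hm]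
        rcases subsingleton_or_nontrivial (A ⊗[R] P) with hs | hs
        · exact absurd (congrArg Ψ (Subsingleton.elim (1 : A ⊗[R] P) 0)) (by simp)
        · have h1 := N.charpoly_monic
          rw [Polynomial.Monic, Polynomial.leadingCoeff, Matrix.charpoly_natDegree_eq_dim, Fintype.card_fin] at h1
          rw [h1, map_one]
      · rw [if_neg hm.ne', Polynomial.coeff_eq_zero_of_natDegree_lt, map_zero]
        rcases subsingleton_or_nontrivial (A ⊗[R] P) with hs | hs
        · rw [Polynomial.natDegree_of_subsingleton]; omega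
        · rw [Matrix.charpoly_natDegree_eq_dim, Fintype.card_fin]; exact hm
    refine ⟨D.d, ?_⟩
    have h2 := Matrix.aeval_self_charpoly (N.map Ψ)
    rwa [hX, map_pow, Polynomial.aeval_X, hN] at h2
  · rintro ⟨Q, hQ, hQg⟩
    obtain ⟨m, hm⟩ := Set.mem_iUnion.mp hQ
    set f := N.charpoly.coeff m.1 with hf
    change f ∉ Q.asIdeal at hm
    -- the image of the coefficient in the fibre is not nilpotent
    let q : Ideal A := (basePt R A k g : PrimeSpectrum A).asIdeal
    have hq : ∀ b, g.ofConv b = 0 ↔ b ∈ q := fun b => (basePt_asIdeal R A k g b).symm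
    let gq : A ⧸ q →ₐ[R] k := Ideal.Quotient.liftₐ q g.ofConv fun b hb => (hq b).mpr hb
    have hgq : Function.Injective gq := by
      rw [injective_iff_map_eq_zero]
      intro b
      obtain ⟨b, rfl⟩ := Ideal.Quotient.mk_surjective b
      intro hb
      exact Ideal.Quotient.eq_zero_iff_mem.mpr ((hq b).mp hb)
    let β : (A ⧸ q) ⊗[R] P →ₐ[R] k ⊗[R] P := Algebra.TensorProduct.map gq (AlgHom.id R P)
    have hβ : Function.Injective β := by
      have := Module.Flat.rTensor_preserves_injective_linearMap (M := P) gq.toLinearMap hgq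
      intro x y hxy
      exact this hxy
    let π : A ⊗[R] P →ₐ[R] (A ⧸ q) ⊗[R] P := Algebra.TensorProduct.map (Ideal.Quotient.mkₐ R q) (AlgHom.id R P)
    have hnot : ¬IsNilpotent (β (π f)) := by
      rw [IsNilpotent.map_iff hβ]
      rintro ⟨e, he⟩
      let Qm : (A ⧸ q) →ₐ[R] (A ⊗[R] P) ⧸ Q.asIdeal :=
        Ideal.Quotient.liftₐ q ((Ideal.Quotient.mkₐ R Q.asIdeal).comp ιL) fun b hb => by
          show Ideal.Quotient.mk Q.asIdeal (b ⊗ₜ[R] 1) = 0
          rw [Ideal.Quotient.eq_zero_iff_mem]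
          have : b ∈ (PrimeSpectrum.comap (algebraMap A (A ⊗[R] P)) Q).asIdeal := by rw [hQg]; exact hb
          exact this
      let L : (A ⧸ q) ⊗[R] P →ₐ[R] (A ⊗[R] P) ⧸ Q.asIdeal := Algebra.TensorProduct.lift Qm
        ((Ideal.Quotient.mkₐ R Q.asIdeal).comp ιR) fun _ _ => Commute.all _ _
      have hL : L.comp π = Ideal.Quotient.mkₐ R Q.asIdeal := Algebra.TensorProduct.ext'
        fun b p => by
          show Ideal.Quotient.mk Q.asIdeal (b ⊗ₜ[R] 1) * Ideal.Quotient.mk Q.asIdeal (1 ⊗ₜ[R] p) = _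
          rw [← map_mul, Algebra.TensorProduct.tmul_mul_tmul, _root_.mul_one, _root_.one_mul]
          rfl
      have h1 := congrArg L he
      rw [map_pow, ← AlgHom.comp_apply L π, hL, map_zero, ← map_pow] at h1
      exact hm (Q.isPrime.mem_of_pow_mem e (Ideal.Quotient.eq_zero_iff_mem.mp h1))
    obtain ⟨χ, hχ⟩ := exists_point_ne_zero (k := k) hnot
    refine hχ ?_
    let Φ : P →ₐ[R] k := (χ.restrictScalars R).comp Algebra.TensorProduct.includeRight
    let Ψ : A ⊗[R] P →ₐ[R] k := (χ.restrictScalars R).comp (β.comp π)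
    have hΨ : ∀ b, Ψ (b ⊗ₜ[R] 1) = g.ofConv b := fun b => by
      show χ (g.ofConv b ⊗ₜ[R] 1) = g.ofConv b
      exact χ.commutes (g.ofConv b)
    have hΨ' : ∀ p, Ψ (1 ⊗ₜ[R] p) = Φ p := fun p => by
      show χ (gq (Ideal.Quotient.mk q 1) ⊗ₜ[R] p) = χ (1 ⊗ₜ[R] p)
      rw [map_one, map_one]
    have hN : N.map Ψ = (D.hom k g - 1) * ∑ i, Φ (c i) • D.hom k (toConv (Φ.comp (h i))) := by
      show N.map (Ψ : A ⊗[R] P →+* k) = _
      rw [Matrix.map_mul, Matrix.map_sub _ (map_sub _), Matrix.map_one _ (map_zero _) (map_one _)]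
      congr 1
      · congr 1
        ext i j
        exact hΨ _
      · ext p q'
        simp only [Matrix.map_apply, Matrix.sum_apply, Matrix.smul_apply, map_sum, smul_eq_mul, map_mul]
        refine Finset.sum_congr rfl fun i _ => ?_
        exact congrArg₂ (· * ·) (hΨ' _) (hΨ' _)
    have hnil := hg (∑ i, Φ (c i) • D.hom k (toConv (Φ.comp (h i))))
      (Submodule.sum_mem _ fun i _ => Submodule.smul_mem _ _ (Submodule.subset_span ⟨_, rfl⟩))
    rw [← hN] at hnil
    have h3 := (Matrix.isNilpotent_charpoly_sub_pow_of_isNilpotent hnil).eq_zero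
    rw [sub_eq_zero, show N.map Ψ = N.map (Ψ : A ⊗[R] P →+* k) from rfl, Matrix.charpoly_map, Fintype.card_fin] at h3
    have h4 := congrArg (fun p => p.coeff m.1) h3
    simp only [Polynomial.coeff_map, Polynomial.coeff_X_pow, if_neg m.2.ne] at h4
    exact h4

end Groth.Agent.RedOpenLib
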