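import Groth.Agent.RedOpenLib.Cell
import Groth.Agent.GModLib.UnipotentRadical

/-!
# A normal subgroup without subtori meets the attracting subgroups or commutes with the one-parameter subgroups
-/

set_option autoImplicit false
set_option linter.style.haveILetI false
set_option backward.isDefEq.respectTransparency false
set_option backward.isDefEq.respectTransparency.types false

universe u

open CategoryTheory CategoryTheory.Limits MonoidalCategory CartesianMonoidalCategory MonObj GrpObj AlgebraicGeometry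
open LaurentPolynomial TensorProduct WithConv
open scoped Groth.Agent.DynLib Matrix

namespace Groth.Agent.RedOpenLib

open DynLib DynSm GrpSchLib GrpSchLib.Kunneth GrpSchLib.AffineHopf GModLib

variable {R : Type u} [CommRing R] {A : Type u} [CommRing A] [HopfAlgebra R A]

/-- The point whose adjoint operator differs from one by a nil element of the algebra of the representation. -/
def NilAt (D : AdData R A) {k : Type u} [Field k] [Algebra R k] (g : WithConv (A →ₐ[R] k)) : Prop :=
  ∀ a ∈ Submodule.span k (Set.range (D.hom k)), IsNilpotent ((D.hom k g - 1) * a)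

variable {k : Type u} [Field k] [IsAlgClosed k] [Algebra R k]

theorem nilAt_of_mem (D : AdData R A) {I : Submodule k (Matrix (Fin D.d) (Fin D.d) k)}
    (hI : ∀ x ∈ I, IsNilpotent x) (hI' : ∀ x ∈ I, ∀ g, D.hom k g * x ∈ I ∧ x * D.hom k g ∈ I)
    {g : WithConv (A →ₐ[R] k)} (hg : D.hom k g - 1 ∈ I) : NilAt D g := by
  intro a ha
  refine hI _ ?_
  induction ha using Submodule.span_induction with
  | mem x hx => obtain ⟨h, rfl⟩ := hx; exact (hI' _ hg h).2
  | zero => rw [mul_zero]; exact zero_mem _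
  | add x y _ _ hx hy => rw [mul_add]; exact add_mem hx hy
  | smul c x _ hx => rw [mul_smul_comm]; exact I.smul_mem c hx

/-- A normal subgroup without subtori acts through a nil ideal of the algebra of the adjoint representation. -/
theorem exists_nil_ideal (D : AdData R A) {U : Over (Spec (CommRingCat.of k))} [GrpObj U] [IsAffine U.left]
    [Smooth U.hom] [ConnectedSpace U.left] (u : U ⟶ fib R A k) [IsMonHom u] (hn : AlgGrp.IsNormalHom u)
    (hno : Red.HasNoSubtorus k U) :
    ∃ I : Submodule k (Matrix (Fin D.d) (Fin D.d) k), (∀ x ∈ I, IsNilpotent x) ∧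
      (∀ x ∈ I, ∀ g, D.hom k g * x ∈ I ∧ x * D.hom k g ∈ I) ∧
      ∀ q : VecGrp.pt k k ⟶ U, D.hom k ((ptEquiv R A k).symm (q ≫ u)) - 1 ∈ I := by
  classical
  haveI : IsReduced U.left := GrpSchLib.isReduced_of_smooth_field U.hom
  let π : (VecGrp.pt k k ⟶ U) →* Matrix (Fin D.d) (Fin D.d) k :=
    (D.hom k).comp ((ptEquiv R A k).symm.toMonoidHom.comp (pushPt u))
  have hπ : ∀ q, π q = D.hom k ((ptEquiv R A k).symm (q ≫ u)) := fun q => rfl
  let ρ : (VecGrp.pt k k ⟶ U) →* Module.End k (Fin D.d → k) :=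
    (Matrix.toLinAlgEquiv' (R := k) (n := Fin D.d)).toAlgHom.toMonoidHom.comp π
  have hρ : ∀ q v, ρ q v = π q *ᵥ v := fun q v => Matrix.toLinAlgEquiv'_apply _ _
  -- regularity
  have hreg : (regSystem (G := U)).Reg ρ := by
    intro φ v
    refine ⟨ev u (∑ i, ∑ j, incl R A k (D.P i j) * algebraMap k _ (v j * φ (Pi.single i 1))), fun q => ?_⟩
    show φ (ρ q v) = _
    rw [pullFn_ev, ← MulEquiv.apply_symm_apply (ptEquiv R A k) (q ≫ u), hρ]
    simp only [map_sum, map_mul, pullFn_incl, AlgHom.commutes, Algebra.algebraMap_self, RingHom.id_apply]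
    conv_lhs => rw [pi_eq_sum_univ' (π q *ᵥ v), map_sum]
    refine Finset.sum_congr rfl fun i _ => ?_
    rw [map_smul, smul_eq_mul, Matrix.mulVec, dotProduct, Finset.sum_mul]
    refine Finset.sum_congr rfl fun j _ => ?_
    rw [hπ, AdData.hom_apply, _root_.mul_assoc]
  obtain ⟨n, hn'⟩ := isSolvableGrp_of_hasNoSubtorus hno
  obtain ⟨b, hb⟩ := exists_flag (hn' (VecGrp.pt k k)) D.d (Fin D.d → k) (Module.finrank_fin_fun k) ρ hreg
  have hdiag : ∀ q j, b.repr (ρ q (b j)) j = 1 := by
    intro q j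
    let φ : (Fin D.d → k) →ₗ[k] k := b.coord j
    obtain ⟨ω, hω⟩ := hreg φ (b j)
    have hmul : ∀ g h, b.repr (ρ (g * h) (b j)) j = b.repr (ρ g (b j)) j * b.repr (ρ h (b j)) j := by
      intro g h
      rw [_root_.map_mul, Module.End.mul_apply]
      conv_lhs => rw [← b.sum_repr (ρ h (b j)), map_sum, map_sum]
      rw [Finsupp.finset_sum_apply, Finset.sum_eq_single j]
      · rw [map_smul, map_smul, Finsupp.smul_apply, smul_eq_mul, mul_comm]
      · intro l _ hl
        rw [map_smul, map_smul, Finsupp.smul_apply, smul_eq_mul]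
        rcases lt_or_gt_of_ne hl with h' | h'
        · have := b.mem_span_image.mp (hb g l)
          rw [show b.repr (ρ g (b l)) j = 0 from Finsupp.notMem_support_iff.mp fun hj =>
            absurd (Set.mem_Iic.mp (this hj)) (not_le.mpr h'), mul_zero]
        · have := b.mem_span_image.mp (hb h j)
          rw [show b.repr (ρ h (b j)) l = 0 from Finsupp.notMem_support_iff.mp fun hj =>
            absurd (Set.mem_Iic.mp (this hj)) (not_le.mpr h'), zero_mul]
      · exact fun h => absurd (Finset.mem_univ j) h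
    have e : ∀ g, pullFn g ω = b.repr (ρ g (b j)) j := fun g => (hω g).symm
    rw [← e]
    exact char_eq_one_of_hasNoSubtorus hno ⟨fun g h => by rw [e, e, e, hmul], by
      rw [e, _root_.map_one, Module.End.one_apply, b.repr_self, Finsupp.single_eq_same]⟩ q
  -- the filtration
  let W : ℕ → Submodule k (Fin D.d → k) := fun i =>
    Nat.rec ⊥ (fun _ Wi => ⨅ q : VecGrp.pt k k ⟶ U, Wi.comap (Matrix.mulVecLin (π q - 1))) i
  have hW : ∀ i v, v ∈ W (i + 1) ↔ ∀ q, (π q - 1) *ᵥ v ∈ W i := fun i v => by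
    show v ∈ ⨅ q : VecGrp.pt k k ⟶ U, (W i).comap (Matrix.mulVecLin (π q - 1)) ↔ _
    simp only [Submodule.mem_iInf, Submodule.mem_comap, Matrix.mulVecLin_apply]
  have hconj : ∀ (g : WithConv (A →ₐ[R] k)) (q : VecGrp.pt k k ⟶ U),
      ∃ q', D.hom k g⁻¹ * (π q) * D.hom k g = π q' := by
    intro g q
    obtain ⟨q', hq'⟩ := hn _ (ptEquiv R A k g⁻¹) q
    refine ⟨q', ?_⟩
    rw [hπ, hπ, ← hq', _root_.map_mul (ptEquiv R A k).symm, _root_.map_mul (ptEquiv R A k).symm,
      map_inv (ptEquiv R A k).symm, MulEquiv.symm_apply_apply, _root_.inv_inv, _root_.map_mul, _root_.map_mul]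
  have hstab : ∀ i g, ∀ v ∈ W i, D.hom k g *ᵥ v ∈ W i := by
    intro i
    induction i with
    | zero =>
      intro g v hv
      have hv0 : v = 0 := (Submodule.mem_bot k).mp hv
      rw [hv0, Matrix.mulVec_zero]
      exact zero_mem _
    | succ i ih =>
      intro g v hv
      rw [hW] at hv ⊢
      intro q
      obtain ⟨q', hq'⟩ := hconj g q
      have h1 : (π q - 1) * D.hom k g = D.hom k g * (π q' - 1) := by
        rw [← hq', mul_sub, sub_mul, ← _root_.mul_assoc, ← _root_.mul_assoc, ← _root_.map_mul,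
          mul_inv_cancel, _root_.map_one]
        noncomm_ring
      rw [Matrix.mulVec_mulVec, h1, ← Matrix.mulVec_mulVec]
      exact ih g _ (hv q')
  have htop : ∀ (i : ℕ) (j : Fin D.d), (j : ℕ) < i → b j ∈ W i := by
    intro i
    induction i with
    | zero => exact fun j hj => absurd hj (Nat.not_lt_zero _)
    | succ i ih =>
      intro j hj
      rw [hW]
      intro q
      rw [Matrix.sub_mulVec, Matrix.one_mulVec, ← hρ, ← b.sum_repr (ρ q (b j) - b j)]
      refine Submodule.sum_mem _ fun l _ => ?_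
      by_cases hl : l < j
      · exact Submodule.smul_mem _ _ (ih l (by
          have : (l : ℕ) < j := hl
          omega))
      · suffices b.repr (ρ q (b j) - b j) l = 0 by rw [this, zero_smul]; exact zero_mem _
        rw [map_sub, Finsupp.sub_apply, b.repr_self]
        rcases eq_or_lt_of_le (not_lt.mp hl) with h' | h'
        · subst h'; rw [hdiag, Finsupp.single_eq_same, sub_self]
        · rw [Finsupp.single_eq_of_ne h'.ne', sub_zero]
          exact Finsupp.notMem_support_iff.mp fun hm =>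
            absurd (Set.mem_Iic.mp (b.mem_span_image.mp (hb q j) hm)) (not_le.mpr h')
  let I : Submodule k (Matrix (Fin D.d) (Fin D.d) k) :=
    { carrier := {x | ∀ i, ∀ v ∈ W (i + 1), x *ᵥ v ∈ W i}
      add_mem' := fun hx hy i v hv => by rw [Matrix.add_mulVec]; exact add_mem (hx i v hv) (hy i v hv)
      zero_mem' := fun i v _ => by rw [Matrix.zero_mulVec]; exact zero_mem _
      smul_mem' := fun c x hx i v hv => by rw [Matrix.smul_mulVec]; exact (W i).smul_mem c (hx i v hv) }
  refine ⟨I, fun x hx => ?_, fun x hx g => ⟨fun i v hv => ?_, fun i v hv => ?_⟩, fun q i v hv => (hW i v).mp hv q⟩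
  · refine ⟨D.d, ?_⟩
    have hdown : ∀ i, ∀ v ∈ W i, (x ^ i) *ᵥ v = 0 := by
      intro i
      induction i with
      | zero => intro v hv; rw [pow_zero, Matrix.one_mulVec]; exact (Submodule.mem_bot k).mp hv
      | succ i ih =>
        intro v hv
        rw [pow_succ, ← Matrix.mulVec_mulVec]
        exact ih _ (hx i v hv)
    refine Matrix.toLinAlgEquiv'.injective (b.ext fun j => ?_)
    rw [Matrix.toLinAlgEquiv'_apply, hdown _ _ (htop _ j j.2)]
    simp
  · rw [← Matrix.mulVec_mulVec]; exact hstab i g _ (hx i v hv)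
  · rw [← Matrix.mulVec_mulVec]; exact hx i _ (hstab (i + 1) g v hv)

theorem evT_one {R' : Type u} [CommRing R'] [Algebra R R'] (p : R'[T;T⁻¹]) : evT R (1 : R'ˣ) p = ev1 R R' p := by
  induction p using AddMonoidAlgebra.induction_linear with
  | zero => simp
  | add p q hp hq => simp only [map_add, hp, hq]
  | single n r => rw [evT_single, ev1_single, one_zpow, Units.val_one, _root_.mul_one]

theorem lamAt_one (lam : A →ₐc[R] R[T;T⁻¹]) {R' : Type u} [CommRing R'] [Algebra R R'] :
    lamAt lam (1 : R'ˣ) = 1 := by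
  rw [← ev1_lamW lam (R := R')]
  apply WithConv.ofConv_injective
  ext a : 1
  exact evT_one (R := R) _

theorem poly_const {F G : Polynomial k} (h : ∀ t : k, t ≠ 0 → F.eval t = G.eval t⁻¹) :
    F = Polynomial.C (G.eval 0) := by
  classical
  let N := G.natDegree
  let H : Polynomial k := ∑ i ∈ Finset.range (N + 1), Polynomial.C (G.coeff i) * Polynomial.X ^ (N - i)
  have hinf : ({0}ᶜ : Set k).Infinite := (Set.finite_singleton (0 : k)).infinite_compl
  have heq : F * Polynomial.X ^ N = H := by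
    refine Polynomial.eq_of_infinite_eval_eq _ _ (hinf.mono fun t ht => ?_)
    have ht0 : t ≠ 0 := ht
    show (F * Polynomial.X ^ N).eval t = H.eval t
    rw [Polynomial.eval_mul, Polynomial.eval_pow, Polynomial.eval_X, h t ht0, Polynomial.eval_eq_sum_range,
      Finset.sum_mul, Polynomial.eval_finset_sum]
    refine Finset.sum_congr rfl fun i hi => ?_
    rw [Finset.mem_range] at hi
    simp only [Polynomial.eval_mul, Polynomial.eval_C, Polynomial.eval_pow, Polynomial.eval_X]
    rw [_root_.mul_assoc, inv_pow, pow_sub₀ t ht0 (by omega), mul_comm (t ^ N)]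
  have hH : H.natDegree ≤ N := Polynomial.natDegree_sum_le_of_forall_le _ _ fun i _ =>
    (Polynomial.natDegree_C_mul_X_pow_le _ _).trans (Nat.sub_le _ _)
  have hF : F.natDegree = 0 := by
    by_contra hne
    have hF0 : F ≠ 0 := fun e => hne (by rw [e, Polynomial.natDegree_zero])
    rw [← heq, Polynomial.natDegree_mul hF0 (pow_ne_zero _ Polynomial.X_ne_zero), Polynomial.natDegree_X_pow] at hH
    omega
  obtain ⟨c, rfl⟩ : ∃ c, F = Polynomial.C c := ⟨_, Polynomial.eq_C_of_natDegree_eq_zero hF⟩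
  have hG : G = Polynomial.C c := Polynomial.eq_of_infinite_eval_eq _ _ (hinf.mono fun t ht => by
    have ht0 : t ≠ 0 := ht
    show G.eval t = _
    have := h t⁻¹ (inv_ne_zero ht0)
    rw [_root_.inv_inv] at this
    rw [← this, Polynomial.eval_C, Polynomial.eval_C])
  rw [hG, Polynomial.eval_C]

/-- A linear form of the adjoint matrix of a polynomial point, as a polynomial. -/
noncomputable def linPoly (D : AdData R A) (L : Matrix (Fin D.d) (Fin D.d) k →ₗ[k] k)
    (h : WithConv (A →ₐ[R] Polynomial k)) : Polynomial k :=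
  ∑ i, ∑ j, Polynomial.C (L (Matrix.single i j 1)) * h.ofConv (D.P i j)

theorem eval_linPoly (D : AdData R A) (L : Matrix (Fin D.d) (Fin D.d) k →ₗ[k] k)
    (h : WithConv (A →ₐ[R] Polynomial k)) (t : k) :
    (linPoly D L h).eval t = L (D.hom k (post ((Polynomial.aeval t).restrictScalars R) h)) := by
  conv_rhs => rw [Matrix.matrix_eq_sum_single (D.hom k _)]
  simp only [linPoly, map_sum, Polynomial.eval_finset_sum, Polynomial.eval_mul, Polynomial.eval_C]
  refine Finset.sum_congr rfl fun i _ => Finset.sum_congr rfl fun j _ => ?_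
  rw [show Matrix.single i j (D.hom k (post ((Polynomial.aeval t).restrictScalars R) h) i j) =
    D.hom k (post ((Polynomial.aeval t).restrictScalars R) h) i j • Matrix.single i j (1 : k) by
      rw [Matrix.smul_single, smul_eq_mul, _root_.mul_one], map_smul, smul_eq_mul, mul_comm]
  rfl

/-- The factors in the cell of a point whose conjugates are unipotent modulo an ideal are unipotent modulo it. -/
theorem factors_mem (D : AdData R A) (lam : A →ₐc[R] R[T;T⁻¹]) {I : Submodule k (Matrix (Fin D.d) (Fin D.d) k)}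
    (hI : ∀ x ∈ I, ∀ g, D.hom k g * x ∈ I ∧ x * D.hom k g ∈ I) {w p : WithConv (A →ₐ[R] k)}
    (hw : Dyn.LimIsOne R A (negLam lam) k w.ofConv) (hp : Dyn.LimExists R A lam k p.ofConv)
    (hg : ∀ t : kˣ, D.hom k (lamAt lam t * (w * p) * (lamAt lam t)⁻¹) - 1 ∈ I) :
    D.hom k w - 1 ∈ I ∧ ∃ z v, conjHom lam k z = post (con R k) z ∧ Dyn.LimIsOne R A lam k v.ofConv ∧
      z * v = p ∧ D.hom k v - 1 ∈ I := by
  obtain ⟨z, v, h, hz, hv, hzv, hh, hh0⟩ := exists_levi lam hp
  obtain ⟨hw', hw1, hw0⟩ := (limIsOne_iff (negLam lam) w.ofConv).mp hw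
  rw [toConv_ofConv] at hw1
  let evt : k → (Polynomial k →ₐ[R] k) := fun t => (Polynomial.aeval t).restrictScalars R
  have hrel : ∀ t : kˣ, D.hom k (post (evt t) h) - D.hom k (post (evt ((t : k)⁻¹)) hw'⁻¹) ∈ I := by
    intro t
    have hP : post (evt t) h = lamAt lam t * p * (lamAt lam t)⁻¹ := (conj_lamAt_eq_eval lam t hh).symm
    have hW : post (evt ((t : k)⁻¹)) hw' = lamAt lam t * w * (lamAt lam t)⁻¹ := by
      have e := conj_lamAt_eq_eval (negLam lam) t⁻¹ hw1
      rw [conj_lamNegAt lam (negLam_eq lam), _root_.inv_inv, Units.val_inv_eq_inv_val] at e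
      exact e.symm
    have h1 := (hI _ (hg t) (post (evt ((t : k)⁻¹)) hw'⁻¹)).1
    rw [mul_sub, _root_.mul_one, ← _root_.map_mul, map_inv, hW] at h1
    rw [map_inv, hW, hP]
    convert h1 using 3
    simp only [_root_.mul_inv_rev, _root_.inv_inv, _root_.mul_assoc, inv_mul_cancel_left]
  have hL : ∀ L : Matrix (Fin D.d) (Fin D.d) k →ₗ[k] k, I ≤ LinearMap.ker L →
      linPoly D L h = Polynomial.C (L 1) ∧ linPoly D L hw'⁻¹ = Polynomial.C (L 1) := by
    intro L hle
    have hev : ∀ t : k, t ≠ 0 → (linPoly D L h).eval t = (linPoly D L hw'⁻¹).eval t⁻¹ := fun t ht => by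
      rw [eval_linPoly, eval_linPoly]
      exact sub_eq_zero.mp ((map_sub L _ _).symm.trans (hle (hrel (Units.mk0 t ht))))
    have hG0 : (linPoly D L hw'⁻¹).eval 0 = L 1 := by
      rw [eval_linPoly, map_inv, show (Polynomial.aeval (0 : k)).restrictScalars R = ev0 R k from rfl, hw0, inv_one,
        _root_.map_one]
    have hF := poly_const hev
    rw [hG0] at hF
    refine ⟨hF, ?_⟩
    refine Polynomial.eq_of_infinite_eval_eq _ _ ((Set.finite_singleton (0 : k)).infinite_compl.mono fun t ht => ?_)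
    show (linPoly D L hw'⁻¹).eval t = _
    have := hev t⁻¹ (inv_ne_zero ht)
    rw [_root_.inv_inv, hF] at this
    rw [← this, Polynomial.eval_C, Polynomial.eval_C]
  have hmem : ∀ x : Matrix (Fin D.d) (Fin D.d) k,
      (∀ L : Matrix (Fin D.d) (Fin D.d) k →ₗ[k] k, I ≤ LinearMap.ker L → L x = 0) → x ∈ I := by
    intro x hx
    by_contra hxI
    obtain ⟨f, hfx, hf⟩ := Submodule.exists_dual_map_eq_bot_of_notMem hxI inferInstance
    refine hfx (hx f fun y hy => ?_)
    have : f y ∈ I.map f := ⟨y, hy, rfl⟩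
    rw [hf] at this
    exact LinearMap.mem_ker.mpr ((Submodule.mem_bot k).mp this)
  have h1p : post (evt 1) h = p := by
    have e := (conj_lamAt_eq_eval lam (1 : kˣ) hh).symm
    rw [lamAt_one, _root_.one_mul, inv_one, _root_.mul_one, Units.val_one] at e
    exact e
  have h1w : post (evt 1) hw' = w := by
    have e := (conj_lamAt_eq_eval (negLam lam) (1 : kˣ) hw1).symm
    rw [lamAt_one, _root_.one_mul, inv_one, _root_.mul_one, Units.val_one] at e
    exact e
  have hpI : D.hom k p - 1 ∈ I := hmem _ fun L hle => by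
    rw [map_sub, ← h1p, ← eval_linPoly, (hL L hle).1, Polynomial.eval_C, sub_self]
  have hzI : D.hom k z - 1 ∈ I := hmem _ fun L hle => by
    rw [map_sub, ← hh0, show ev0 R k = (Polynomial.aeval (0 : k)).restrictScalars R from rfl, ← eval_linPoly,
      (hL L hle).1, Polynomial.eval_C, sub_self]
  have hwI : D.hom k w⁻¹ - 1 ∈ I := hmem _ fun L hle => by
    rw [map_sub, ← h1w, ← map_inv, ← eval_linPoly, (hL L hle).2, Polynomial.eval_C, sub_self]
  refine ⟨?_, z, v, hz, hv, hzv, ?_⟩
  · have h2 := I.neg_mem (hI _ hwI w).1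
    rw [mul_sub, ← _root_.map_mul, mul_inv_cancel, _root_.map_one, _root_.mul_one, neg_sub] at h2
    exact h2
  · have h2 := (hI _ (I.sub_mem hpI hzI) z⁻¹).1
    rw [sub_sub_sub_cancel_right, mul_sub, ← _root_.map_mul, ← _root_.map_mul, inv_mul_cancel, _root_.map_one,
      ← hzv, inv_mul_cancel_left] at h2
    exact h2

/-- A normal subgroup without subtori commutes with a one-parameter subgroup, unless some non-trivial point of
its attracting or repelling subgroup is unipotent modulo the nil ideal. -/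
theorem exists_tending_or_fixed [Algebra.Smooth R A] (D : AdData R A) (lam : A →ₐc[R] R[T;T⁻¹])
    {U : Over (Spec (CommRingCat.of k))} [GrpObj U] [IsAffine U.left] [Smooth U.hom] [ConnectedSpace U.left]
    (u : U ⟶ fib R A k) [IsMonHom u] (hn : AlgGrp.IsNormalHom u) (hno : Red.HasNoSubtorus k U) :
    (∀ q : VecGrp.pt k k ⟶ U,
      conjHom lam k ((ptEquiv R A k).symm (q ≫ u)) = post (con R k) ((ptEquiv R A k).symm (q ≫ u))) ∨
    ∃ w : WithConv (A →ₐ[R] k), w ≠ 1 ∧
      ((Dyn.LimIsOne R A lam k w.ofConv ∧ ∀ t : kˣ, NilAt D (lamAt lam t * w * (lamAt lam t)⁻¹)) ∨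
        (Dyn.LimIsOne R A (negLam lam) k w.ofConv ∧
          ∀ t : kˣ, NilAt D (lamAt (negLam lam) t * w * (lamAt (negLam lam) t)⁻¹))) := by
  obtain ⟨I, hI1, hI2, hI3⟩ := exists_nil_ideal D u hn hno
  have hconjI : ∀ (s g : WithConv (A →ₐ[R] k)), D.hom k g - 1 ∈ I → D.hom k (s * g * s⁻¹) - 1 ∈ I := by
    intro s g hg
    have h := (hI2 _ (hI2 _ hg s).1 s⁻¹).2
    rw [mul_sub, _root_.mul_one, sub_mul, ← _root_.map_mul, ← _root_.map_mul, ← _root_.map_mul, mul_inv_cancel,
      _root_.map_one] at h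
    exact h
  by_cases hex : ∀ w : WithConv (A →ₐ[R] k), D.hom k w - 1 ∈ I →
      (Dyn.LimIsOne R A lam k w.ofConv ∨ Dyn.LimIsOne R A (negLam lam) k w.ofConv) → w = 1
  · refine Or.inl fun q => conjHom_eq_con_of_open lam u (fun q hq => ?_) q
    obtain ⟨w, p, hw, hp, hwp⟩ := exists_cell_factor lam hq
    obtain ⟨hwI, z, v, hz, hv, hzv, hvI⟩ := factors_mem D lam hI2 hw hp fun t => by
      rw [hwp]
      exact hconjI _ _ (hI3 q)
    rw [← hwp, ← hzv, hex w hwI (Or.inr hw), hex v hvI (Or.inl hv), _root_.one_mul, _root_.mul_one]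
    exact hz
  · push Not at hex
    obtain ⟨w, hwI, hw, hne⟩ := hex
    refine Or.inr ⟨w, hne, hw.imp (fun h => ⟨h, fun t => ?_⟩) (fun h => ⟨h, fun t => ?_⟩)⟩ <;>
      exact nilAt_of_mem D hI1 hI2 (hconjI _ _ hwI)

end Groth.Agent.RedOpenLib
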