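import Groth.Agent.RedOpenLib.NilLocus
import Mathlib.AlgebraicGeometry.ZariskisMainTheorem

/-!
# Quasi-finiteness from finiteness of geometric points
-/

set_option autoImplicit false
set_option linter.style.haveILetI false
set_option backward.isDefEq.respectTransparency false
set_option backward.isDefEq.respectTransparency.types false

universe u

open CategoryTheory CategoryTheory.Limits TensorProduct AlgebraicGeometry

namespace Groth.Agent.RedOpenLib

variable {R : Type u} [CommRing R] {C : Type u} [CommRing C] [Algebra R C]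

/-- A finitely generated algebra over an algebraically closed field with finitely many points has finite spectrum. -/
theorem finite_primeSpectrum_of_finite_points {k : Type u} [Field k] [IsAlgClosed k] {B : Type u} [CommRing B]
    [Algebra k B] [Algebra.FiniteType k B] [Finite (B →ₐ[k] k)] : Finite (PrimeSpectrum B) := by
  classical
  haveI : IsJacobsonRing B := isJacobsonRing_of_finiteType (A := k)
  let K : (B →ₐ[k] k) → PrimeSpectrum B := fun χ => ⟨RingHom.ker χ.toRingHom, RingHom.ker_isPrime _⟩
  refine Finite.of_surjective K fun P => ?_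
  have hmax : ∀ m : Ideal B, m.IsMaximal → ∃ χ, (K χ).asIdeal = m := by
    intro m hm
    haveI := hm
    letI := Ideal.Quotient.field m
    haveI : Algebra.FiniteType k (B ⧸ m) := .of_surjective (Ideal.Quotient.mkₐ k m) Ideal.Quotient.mk_surjective
    haveI : Module.Finite k (B ⧸ m) := finite_of_finite_type_of_isJacobsonRing k (B ⧸ m)
    let e : k ≃ₐ[k] (B ⧸ m) := AlgEquiv.ofBijective (Algebra.ofId k (B ⧸ m))
      IsAlgClosed.algebraMap_bijective_of_isIntegral
    refine ⟨e.symm.toAlgHom.comp (Ideal.Quotient.mkₐ k m), Ideal.ext fun x => ?_⟩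
    show e.symm (Ideal.Quotient.mk m x) = 0 ↔ x ∈ m
    rw [map_eq_zero_iff _ e.symm.injective, Ideal.Quotient.eq_zero_iff_mem]
  haveI := Fintype.ofFinite (B →ₐ[k] k)
  let S := Finset.univ.filter fun χ : B →ₐ[k] k => P.asIdeal ≤ (K χ).asIdeal
  have h1 : (S.inf fun χ => (K χ).asIdeal) ≤ P.asIdeal := by
    conv_rhs => rw [← IsJacobsonRing.out ‹IsJacobsonRing B› P.isPrime.isRadical]
    refine le_sInf fun m ⟨hPm, hm⟩ => ?_
    obtain ⟨χ, hχ⟩ := hmax m hm
    rw [← hχ]
    exact Finset.inf_le (Finset.mem_filter.mpr ⟨Finset.mem_univ _, hχ.symm ▸ hPm⟩)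
  obtain ⟨χ, hχ, hle⟩ := (Ideal.IsPrime.inf_le' P.isPrime).mp h1
  exact ⟨χ, PrimeSpectrum.ext (le_antisymm hle (Finset.mem_filter.mp hχ).2)⟩

/-- A finitely generated algebra with finitely many geometric points over a point is quasi-finite there. -/
theorem quasiFiniteAt_of_finite_points [Algebra.FiniteType R C] {k : Type u} [Field k] [IsAlgClosed k] [Algebra R k]
    [Finite (C →ₐ[R] k)] (Q : PrimeSpectrum C)
    (hQ : Q.asIdeal.comap (algebraMap R C) = RingHom.ker (algebraMap R k)) :
    Algebra.QuasiFiniteAt R Q.asIdeal := by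
  let B := k ⊗[R] C
  haveI : Finite (B →ₐ[k] k) :=
    Finite.of_injective (fun χ : B →ₐ[k] k => (χ.restrictScalars R).comp Algebra.TensorProduct.includeRight)
      fun χ χ' h => Algebra.TensorProduct.ext (Subsingleton.elim _ _) h
  haveI : Finite (PrimeSpectrum B) := finite_primeSpectrum_of_finite_points (k := k)
  let F := PrimeSpectrum.comap (algebraMap R C) ⁻¹' {Q.comap (algebraMap R C)}
  haveI : Finite F := by
    refine Set.Finite.to_subtype ((Set.finite_range
      (PrimeSpectrum.comap (Algebra.TensorProduct.includeRight : C →ₐ[R] B).toRingHom)).subset fun P hP => ?_)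
    obtain ⟨z, -, hz2⟩ := Scheme.Pullback.exists_preimage_pullback
      (f := Spec.map (CommRingCat.ofHom (algebraMap R k))) (g := Spec.map (CommRingCat.ofHom (algebraMap R C)))
      (⊥ : PrimeSpectrum k) P (by
        rw [Set.mem_preimage, Set.mem_singleton_iff] at hP
        refine Eq.trans ?_ hP.symm
        refine PrimeSpectrum.ext ?_
        show Ideal.comap (algebraMap R k) ⊥ = _
        exact hQ.symm)
    refine ⟨(pullbackSpecIso R k C).hom z, ?_⟩
    rw [← hz2, ← pullbackSpecIso_hom_snd]
    rfl
  rw [Algebra.quasiFiniteAt_iff_isOpen_singleton_fiber]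
  let e := PrimeSpectrum.preimageHomeomorphFiber R C (Q.comap (algebraMap R C))
  haveI : IsJacobsonRing ((Q.comap (algebraMap R C)).asIdeal.Fiber C) :=
    isJacobsonRing_of_finiteType (A := (Q.comap (algebraMap R C)).asIdeal.ResidueField)
  haveI : Finite (PrimeSpectrum ((Q.comap (algebraMap R C)).asIdeal.Fiber C)) := Finite.of_equiv _ e.toEquiv
  rw [← e.isOpen_image]
  exact isOpen_discrete _

/-- Scheme-theoretic and ring-theoretic quasi-finiteness agree. -/
theorem quasiFiniteAt_spec_iff (x : PrimeSpectrum C) :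
    (Spec.map (CommRingCat.ofHom (algebraMap R C))).QuasiFiniteAt x ↔ Algebra.QuasiFiniteAt R x.asIdeal := by
  let := Localization.AtPrime.algebraOfLiesOver (x.asIdeal.under R) x.asIdeal
  trans Algebra.QuasiFinite (Localization.AtPrime (x.asIdeal.under R)) (Localization.AtPrime x.asIdeal)
  · rw [← RingHom.quasiFinite_algebraMap]
    exact RingHom.QuasiFinite.respectsIso.arrow_mk_iso_iff (Scheme.arrowStalkMapSpecIso ..)
  exact ⟨fun _ => .trans _ (Localization.AtPrime (x.asIdeal.under R)) _, fun _ => .of_restrictScalars R _ _⟩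

/-- The quasi-finite locus is open. -/
theorem isOpen_quasiFiniteAt [Algebra.FiniteType R C] :
    IsOpen {x : PrimeSpectrum C | Algebra.QuasiFiniteAt R x.asIdeal} := by
  let f := Spec.map (CommRingCat.ofHom (algebraMap R C))
  haveI : LocallyOfFiniteType f :=
    (HasRingHomProperty.Spec_iff (P := @LocallyOfFiniteType)).mpr (RingHom.finiteType_algebraMap.mpr ‹_›)
  have h : {x : PrimeSpectrum C | Algebra.QuasiFiniteAt R x.asIdeal} =
      ({x | f.QuasiFiniteAt x} : Set (Spec (CommRingCat.of C))) :=
    Set.ext fun x => (quasiFiniteAt_spec_iff x).symm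
  rw [h]
  exact f.isOpen_quasiFiniteAt

end Groth.Agent.RedOpenLib
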