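import Groth.Agent.RedOpenLib.BaseChange
import Groth.Agent.RedOpenLib.NonReductive
import Groth.Agent.GModLib.NormalSubgroup
import Groth.Agent.GModLib.ReductiveCartan
import Groth.Agent.GModLib.NilpotentTori
import Mathlib.RingTheory.Artinian.Ring
import Mathlib.RingTheory.Jacobson.Radical

/-!
# In a reductive group few points of the attracting subgroups act unipotently
-/

set_option autoImplicit false
set_option linter.style.haveILetI false
set_option backward.isDefEq.respectTransparency false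
set_option backward.isDefEq.respectTransparency.types false

universe u

open CategoryTheory CategoryTheory.Limits MonoidalCategory CartesianMonoidalCategory MonObj GrpObj AlgebraicGeometry
open LaurentPolynomial TensorProduct WithConv
open scoped Groth.Agent.DynLib Matrix

namespace Groth.Agent.RedOpenLib

open DynLib DynSm GrpSchLib GrpSchLib.Kunneth GrpSchLib.AffineHopf GModLib

variable {R : Type u} [CommRing R] {A : Type u} [CommRing A] [HopfAlgebra R A] {k : Type u} [Field k] [IsAlgClosed k]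
  [Algebra R k]

omit [IsAlgClosed k] in
/-- The largest nil ideal of the algebra of the adjoint representation. -/
theorem exists_nil_max (D : AdData R A) :
    ∃ J : Submodule k (Matrix (Fin D.d) (Fin D.d) k), (∀ x ∈ J, IsNilpotent x) ∧
      (∀ x ∈ J, ∀ g, D.hom k g * x ∈ J ∧ x * D.hom k g ∈ J) ∧
      ∀ g : WithConv (A →ₐ[R] k), NilAt D g → D.hom k g - 1 ∈ J := by
  classical
  let 𝒜 := Algebra.adjoin k (Set.range (D.hom k))
  have hspan : Subalgebra.toSubmodule 𝒜 = Submodule.span k (Set.range (D.hom k)) := by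
    rw [Algebra.adjoin_eq_span]
    congr 1
    rw [show Set.range (D.hom k) = ((MonoidHom.mrange (D.hom k) : Submonoid _) : Set _) from
      (MonoidHom.coe_mrange _).symm, Submonoid.closure_eq]
  have hmem : ∀ g, D.hom k g ∈ 𝒜 := fun g => Algebra.subset_adjoin ⟨g, rfl⟩
  haveI : IsArtinianRing 𝒜 := IsArtinianRing.of_finite k 𝒜
  let J₀ := Ring.jacobson 𝒜
  let J : Submodule k (Matrix (Fin D.d) (Fin D.d) k) :=
    { carrier := {x | ∃ hx : x ∈ 𝒜, (⟨x, hx⟩ : 𝒜) ∈ J₀}
      add_mem' := fun ⟨hx, hx'⟩ ⟨hy, hy'⟩ => ⟨add_mem hx hy, J₀.add_mem hx' hy'⟩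
      zero_mem' := ⟨zero_mem _, J₀.zero_mem⟩
      smul_mem' := fun c x ⟨hx, hx'⟩ => ⟨Subalgebra.smul_mem _ hx c, by
        have e : (⟨c • x, Subalgebra.smul_mem _ hx c⟩ : 𝒜) = algebraMap k 𝒜 c * ⟨x, hx⟩ :=
          Subtype.ext (Algebra.smul_def c x)
        rw [e]
        exact J₀.mul_mem_left _ hx'⟩ }
  obtain ⟨N, hN⟩ : IsNilpotent J₀ := by
    show IsNilpotent (Ring.jacobson 𝒜)
    exact IsSemiprimaryRing.isNilpotent
  refine ⟨J, ?_, ?_, ?_⟩
  · rintro x ⟨hx, hx'⟩
    refine ⟨N, ?_⟩
    have h := Ideal.pow_mem_pow hx' N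
    rw [hN, Submodule.zero_eq_bot, Submodule.mem_bot] at h
    simpa using congrArg Subtype.val h
  · rintro x ⟨hx, hx'⟩ g
    exact ⟨⟨mul_mem (hmem g) hx, J₀.mul_mem_left ⟨_, hmem g⟩ hx'⟩,
      ⟨mul_mem hx (hmem g), J₀.mul_mem_right ⟨_, hmem g⟩ hx'⟩⟩
  · intro g hg
    have hx : D.hom k g - 1 ∈ 𝒜 := sub_mem (hmem g) (one_mem _)
    refine ⟨hx, ?_⟩
    show (⟨_, hx⟩ : 𝒜) ∈ Ring.jacobson 𝒜
    rw [← Ideal.jacobson_bot, Ideal.mem_jacobson_iff]
    intro y
    set z : 𝒜 := ⟨_, hx⟩ with hz
    have h1 : IsNilpotent (z * y) := by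
      obtain ⟨n, hn⟩ := hg (y : Matrix _ _ k) (hspan ▸ y.2)
      exact ⟨n, Subtype.ext (by simpa [z] using hn)⟩
    obtain ⟨n, hn⟩ := h1
    have h2 : IsNilpotent (y * z) := ⟨n + 1, by
      have e : ∀ m : ℕ, (y * z) ^ (m + 1) = y * (z * y) ^ m * z := fun m => by
        induction m with
        | zero => simp
        | succ m ih => rw [pow_succ, ih, pow_succ (z * y)]; simp [_root_.mul_assoc]
      rw [e, hn, mul_zero, zero_mul]⟩
    obtain ⟨w, hw⟩ := h2.isUnit_add_one
    refine ⟨↑w⁻¹, ?_⟩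
    rw [Submodule.mem_bot, _root_.mul_assoc, sub_eq_zero]
    calc (↑w⁻¹ : 𝒜) * (y * z) + ↑w⁻¹ = ↑w⁻¹ * (y * z + 1) := by rw [mul_add, _root_.mul_one]
      _ = 1 := by rw [← hw, Units.inv_mul]

/-- Commutation with all points of a one-parameter subgroup. -/
theorem conjHom_eq_con_of_commute (lam : A →ₐc[R] R[T;T⁻¹]) {g : WithConv (A →ₐ[R] k)}
    (h : ∀ t : kˣ, lamAt lam t * g = g * lamAt lam t) : conjHom lam k g = post (con R k) g := by
  apply WithConv.ofConv_injective
  ext a : 1
  refine sub_eq_zero.mp ?_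
  set q := (conjHom lam k g).ofConv a - (post (con R k) g).ofConv a with hq
  obtain ⟨m, f, hf⟩ := LaurentPolynomial.exists_T_pow q
  have hf0 : f = 0 := by
    refine Polynomial.eq_zero_of_infinite_isRoot _ ((Set.finite_singleton (0 : k)).infinite_compl.mono ?_)
    intro t ht
    have ht0 : t ≠ 0 := ht
    show f.eval t = 0
    have e : evT R (Units.mk0 t ht0) q = 0 := by
      have h1 : lamAt lam (Units.mk0 t ht0) * g * (lamAt lam (Units.mk0 t ht0))⁻¹ = g := by
        rw [h, mul_inv_cancel_right]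
      rw [← post_evT_conjHom] at h1
      rw [hq, map_sub, sub_eq_zero]
      exact (DFunLike.congr_fun (congrArg WithConv.ofConv h1) a).trans (evT_con _ _).symm
    have h2 := congrArg (evT R (Units.mk0 t ht0)) hf
    rw [map_mul, e, zero_mul] at h2
    rwa [show Polynomial.toLaurent f = toL R k f from rfl, evT_toL] at h2
  rw [hf0, map_zero] at hf
  exact (LaurentPolynomial.isUnit_T (R := k) m).mul_left_eq_zero.mp hf.symm

omit [IsAlgClosed k] in
theorem lamAt_negLam (lam : A →ₐc[R] R[T;T⁻¹]) (t : kˣ) : lamAt (negLam lam) t = lamAt lam t⁻¹ := by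
  apply WithConv.ofConv_injective
  ext a : 1
  show evT R t (AddMonoidAlgebra.mapAlgHom ℤ (Algebra.ofId R k) (negLam lam a)) =
    evT R t⁻¹ (AddMonoidAlgebra.mapAlgHom ℤ (Algebra.ofId R k) (lam a))
  have e : negLam lam a = AddMonoidAlgebra.mapDomainBialgHom R (negAddMonoidHom : ℤ →+ ℤ) (lam a) := rfl
  rw [e]
  generalize lam a = p
  induction p using AddMonoidAlgebra.induction_linear with
  | zero => simp
  | add p q hp hq => simp only [map_add, hp, hq]
  | single n r =>
    rw [AddMonoidAlgebra.mapDomainBialgHom_single, mapAlgHom_single', mapAlgHom_single', evT_single, evT_single,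
      inv_zpow', negAddMonoidHom_apply]

omit [IsAlgClosed k] in
theorem smooth_fib [Algebra.Smooth R A] : Smooth (fib R A k).hom := by
  haveI : Smooth (sp R A).hom := (HasRingHomProperty.Spec_iff (P := @Smooth)).mpr (RingHom.smooth_algebraMap.mpr inferInstance)
  exact inferInstanceAs (Smooth (pullback.snd (sp R A).hom _))

omit [IsAlgClosed k] in
theorem isAffine_fib : IsAffine (fib R A k).left :=
  haveI : IsAffine (sp R A).left := isAffine_Spec _
  inferInstanceAs (IsAffine (pullback (sp R A).hom (Spec.map (CommRingCat.ofHom (algebraMap R k)))))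

/-- A torus acting unipotently by the adjoint representation is central. -/
theorem torus_central [Algebra.Smooth R A] [ConnectedSpace (fib R A k).left] (D : AdData R A)
    {S : Over (Spec (CommRingCat.of k))} [GrpObj S] (j : S ⟶ fib R A k) [IsMonHom j] (hS : Red.IsTorus S)
    (h : ∀ q : VecGrp.pt k k ⟶ S, IsNilpotent (D.hom k ((ptEquiv R A k).symm (q ≫ j)) - 1))
    (q : VecGrp.pt k k ⟶ S) (g : WithConv (A →ₐ[R] k)) :
    (ptEquiv R A k).symm (q ≫ j) * g = g * (ptEquiv R A k).symm (q ≫ j) := by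
  classical
  obtain ⟨r, c, hc, hci⟩ := exists_iso_tor hS
  haveI := hc; haveI := hci
  haveI : IsMonHom (inv c) := inferInstanceAs (IsMonHom (asIso c).inv)
  haveI := smooth_fib (R := R) (A := A) (k := k)
  haveI := isAffine_fib (R := R) (A := A) (k := k)
  -- connectedness over the field
  haveI hiso : IsIso (bcToSp (R := R) (S := k) (A := A)).left :=
    inferInstanceAs (IsIso (pullbackSymmetry .. ≪≫ pullbackSpecIso' R k A).hom)
  haveI : Algebra.Smooth k (k ⊗[R] A) := inferInstance
  haveI := smooth_fib (R := k) (A := k ⊗[R] A) (k := k)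
  haveI := isAffine_fib (R := k) (A := k ⊗[R] A) (k := k)
  haveI : IsIso (Spec.map (CommRingCat.ofHom (algebraMap k k))) :=
    (show CommRingCat.ofHom (algebraMap k k) = 𝟙 _ from rfl) ▸ inferInstance
  haveI : ConnectedSpace (fib k (k ⊗[R] A) k).left := by
    let e : (fib R A k).left ≅ (fib k (k ⊗[R] A) k).left :=
      asIso (bcToSp (R := R) (S := k) (A := A)).left ≪≫
        (asIso (pullback.fst (sp k (k ⊗[R] A)).hom (Spec.map (CommRingCat.ofHom (algebraMap k k))))).symm
    exact (Scheme.homeoOfIso e).surjective.connectedSpace (Scheme.homeoOfIso e).continuous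
  obtain ⟨φ, hφ⟩ := exists_bialgHom (inv c ≫ j ≫ bcToSp (R := R) (S := k) (A := A))
  -- points of the torus
  let Ψ : (Fin r → kˣ) →* WithConv (k ⊗[R] A →ₐ[k] k) := MonoidHom.mk'
    (fun x => toConv ((TorusBilin.charAlg x).comp (φ : k ⊗[R] A →ₐ[k] TorusBilin.Coord k r))) fun x y => by
      apply WithConv.ofConv_injective
      refine spMap_injective ?_
      show spMap ((TorusBilin.charAlg (x * y)).comp _) = spMap _
      rw [← spMap_comp, TorusBilin.pt_mul, MonObj.mul_comp, spMap_comp, spMap_comp, spMap_mul]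
  have hΨ : ∀ q : VecGrp.pt k k ⟶ S, ∃ x, restrHom k (Ψ x) = (ptEquiv R A k).symm (q ≫ j) := by
    intro q
    obtain ⟨f, hf⟩ := exists_eq_spMap (R := k) (A := k) (B := TorusBilin.Coord k r) (q ≫ c)
    obtain ⟨x, rfl⟩ := TorusBilin.exists_charAlg_eq f
    refine ⟨x, ?_⟩
    set g₀ := (ptEquiv R A k).symm (q ≫ j) with hg₀
    have h1 : toBc (S := k) g₀.ofConv = q ≫ j := (ptEquiv R A k).apply_symm_apply _
    have h2 : extendScalars (S := k) g₀.ofConv =
        (TorusBilin.charAlg x).comp (φ : k ⊗[R] A →ₐ[k] TorusBilin.Coord k r) := by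
      refine spMap_injective ?_
      rw [← toBc_bcToSp, h1, ← spMap_comp, ← hφ, ← hf, Category.assoc, Category.assoc, IsIso.hom_inv_id_assoc]
    show restrHom k (toConv _) = _
    rw [← h2, restrHom_extendScalars]
  have hΨ' : ∀ x, ∃ q : VecGrp.pt k k ⟶ S, restrHom k (Ψ x) = (ptEquiv R A k).symm (q ≫ j) := by
    intro x
    refine ⟨spMap (TorusBilin.charAlg x) ≫ inv c, ?_⟩
    set g₀ := (ptEquiv R A k).symm ((spMap (TorusBilin.charAlg x) ≫ inv c) ≫ j) with hg₀
    have h1 : toBc (S := k) g₀.ofConv = (spMap (TorusBilin.charAlg x) ≫ inv c) ≫ j :=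
      (ptEquiv R A k).apply_symm_apply _
    have h2 : extendScalars (S := k) g₀.ofConv =
        (TorusBilin.charAlg x).comp (φ : k ⊗[R] A →ₐ[k] TorusBilin.Coord k r) := by
      refine spMap_injective ?_
      rw [← toBc_bcToSp, h1, ← spMap_comp, ← hφ, Category.assoc, Category.assoc]
    show restrHom k (toConv _) = _
    rw [← h2, restrHom_extendScalars]
  -- cocharacters
  let μl : Fin r → (k ⊗[R] A →ₐc[k] k[T;T⁻¹]) := fun l =>
    (((AddMonoidAlgebra.toMultiplicativeBialgEquiv k k ℤ).symm : _ →ₐc[k] k[T;T⁻¹]).comp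
      (MonoidAlgebra.mapDomainBialgHom k
        (AddMonoidHom.toMultiplicative (Pi.evalAddMonoidHom (fun _ : Fin r => ℤ) l)))).comp φ
  have hμ : ∀ l (t : kˣ), lamAt (μl l) t = Ψ (Pi.mulSingle l t) := by
    intro l t
    apply WithConv.ofConv_injective
    refine AlgHom.ext fun a => ?_
    show evT k t (AddMonoidAlgebra.mapAlgHom ℤ (Algebra.ofId k k) ((AddMonoidAlgebra.toMultiplicativeBialgEquiv k k ℤ).symm
      (MonoidAlgebra.mapDomainBialgHom k _ (φ a)))) = TorusBilin.charAlg (Pi.mulSingle l t) (φ a)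
    generalize φ a = p
    induction p using MonoidAlgebra.induction_linear with
    | zero => simp
    | add p q hp hq => simp only [map_add, hp, hq]
    | single m s =>
      rw [MonoidAlgebra.mapDomainBialgHom_single]
      have e : (AddMonoidAlgebra.toMultiplicativeBialgEquiv k k ℤ).symm
          (MonoidAlgebra.single (AddMonoidHom.toMultiplicative (Pi.evalAddMonoidHom (fun _ : Fin r => ℤ) l) m) s) =
          AddMonoidAlgebra.single (m.toAdd l) s := by
        refine EquivLike.injective (AddMonoidAlgebra.toMultiplicativeBialgEquiv k k ℤ) ?_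
        rw [BialgEquiv.apply_symm_apply, AddMonoidAlgebra.toMultiplicativeBialgEquiv_single]
        rfl
      rw [e, mapAlgHom_single', evT_single, show MonoidAlgebra.single m s =
        s • (MonoidAlgebra.single m (1 : k)) by rw [MonoidAlgebra.smul_single, smul_eq_mul, _root_.mul_one],
        map_smul, TorusBilin.charAlg_single, smul_eq_mul]
      simp only [Algebra.ofId_apply, Algebra.algebraMap_self, RingHom.id_apply]
      congr 2
      rw [Finset.prod_eq_single l (fun i _ hi => by rw [Pi.mulSingle_eq_of_ne hi, one_zpow])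
        (fun hl => absurd (Finset.mem_univ l) hl), Pi.mulSingle_eq_same]
  have hnil : ∀ x, IsNilpotent ((D.baseChange k).hom k (Ψ x) - 1) := fun x => by
    obtain ⟨q, hq⟩ := hΨ' x
    rw [baseChange_hom, hq]
    exact h q
  have hcomm : ∀ l (t : kˣ) (g' : WithConv (k ⊗[R] A →ₐ[k] k)), lamAt (μl l) t * g' = g' * lamAt (μl l) t := by
    intro l t g'
    have hfix := conjHom_eq_con_of_open (μl l) (𝟙 (fib k (k ⊗[R] A) k)) (fun q hq =>
      conjHom_eq_con_of_trivial (μl l) hq
        (fun u hu => eq_one_of_unipotent (negLam (μl l)) (D.baseChange k)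
          (fun s => by rw [lamAt_negLam, hμ]; exact hnil _) hu)
        fun u hu => eq_one_of_unipotent (μl l) (D.baseChange k) (fun s => by rw [hμ]; exact hnil _) hu)
      (ptEquiv k (k ⊗[R] A) k g')
    rw [Category.comp_id, MulEquiv.symm_apply_apply] at hfix
    have h1 := post_evT_conjHom (μl l) t g'
    rw [hfix] at h1
    have h2 : post (evT k t) (post (con k k) g') = g' := by
      apply WithConv.ofConv_injective
      refine AlgHom.ext fun a => ?_
      exact evT_con (R := k) t (g'.ofConv a)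
    rw [h2] at h1
    calc lamAt (μl l) t * g' = lamAt (μl l) t * g' * (lamAt (μl l) t)⁻¹ * lamAt (μl l) t := by
          rw [inv_mul_cancel_right]
      _ = g' * lamAt (μl l) t := by rw [← h1]
  obtain ⟨x, hx⟩ := hΨ q
  have hmem : ∀ g', Ψ x * g' = g' * Ψ x := by
    intro g'
    let H : Subgroup (Fin r → kˣ) := (Subgroup.centralizer {g'}).comap Ψ
    have hH : ∀ y, y ∈ H ↔ Ψ y * g' = g' * Ψ y := fun y => by
      simp only [H, Subgroup.mem_comap, Subgroup.mem_centralizer_singleton_iff]
    rw [← hH, ← Finset.univ_prod_mulSingle x]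
    exact Subgroup.prod_mem _ fun l _ => (hH _).mpr (by rw [← hμ]; exact hcomm l _ g')
  have h3 := congrArg (restrHom (R := R) (A := A) (S := k) k) (hmem (toConv (extendScalars g.ofConv)))
  rw [_root_.map_mul, _root_.map_mul, hx, restrHom_extendScalars] at h3
  exact h3

/-- In a reductive group only finitely many points of an attracting subgroup act unipotently modulo the radical. -/
theorem finite_nilAt [Algebra.Smooth R A] (D : AdData R A) (hred : Red.IsReductiveOver k (fib R A k))
    (lam : A →ₐc[R] R[T;T⁻¹]) :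
    {g : WithConv (A →ₐ[R] k) | Dyn.LimIsOne R A lam k g.ofConv ∧ NilAt D g}.Finite := by
  classical
  obtain ⟨ha, hsm, hconn, hU⟩ := id hred
  haveI := ha; haveI := hsm; haveI := hconn
  obtain ⟨J, hJ1, hJ2, hJ3⟩ := exists_nil_max (k := k) D
  let π : (VecGrp.pt k k ⟶ fib R A k) →* Matrix (Fin D.d) (Fin D.d) k :=
    (D.hom k).comp (ptEquiv R A k).symm.toMonoidHom
  have hπJ : ∀ a x, x ∈ J → π a * x ∈ J ∧ x * π a ∈ J := fun a x hx => hJ2 x hx _
  let K : Subgroup (VecGrp.pt k k ⟶ fib R A k) :=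
    { carrier := {a | π a - 1 ∈ J}
      one_mem' := by show π 1 - 1 ∈ J; rw [_root_.map_one, sub_self]; exact zero_mem _
      mul_mem' := fun {a b} ha' hb' => by
        replace ha' : π a - 1 ∈ J := ha'
        replace hb' : π b - 1 ∈ J := hb'
        show π (a * b) - 1 ∈ J
        rw [_root_.map_mul, show π a * π b - 1 = π a * (π b - 1) + (π a - 1) by noncomm_ring]
        exact add_mem (hπJ a _ hb').1 ha'
      inv_mem' := fun {a} ha' => by
        replace ha' : π a - 1 ∈ J := ha'
        show π a⁻¹ - 1 ∈ J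
        have h1 : π a⁻¹ * π a = 1 := by rw [← _root_.map_mul, inv_mul_cancel, _root_.map_one]
        rw [show π a⁻¹ - 1 = -(π a⁻¹ * (π a - 1)) by rw [mul_sub, h1, _root_.mul_one, neg_sub]]
        exact neg_mem (hπJ _ _ ha').1 }
  have hKn : ∀ a b, b ∈ K → a * b * a⁻¹ ∈ K := by
    intro a b hb
    show π (a * b * a⁻¹) - 1 ∈ J
    have h1 : π a * π a⁻¹ = 1 := by rw [← _root_.map_mul, mul_inv_cancel, _root_.map_one]
    rw [_root_.map_mul, _root_.map_mul, show π a * π b * π a⁻¹ - 1 = π a * (π b - 1) * π a⁻¹ by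
      rw [mul_sub, sub_mul, _root_.mul_one, h1]]
    exact (hπJ _ _ (hπJ a _ hb).1).2
  let M : Matrix (Fin D.d) (Fin D.d) (Fn (fib R A k)) := D.P.map (incl R A k)
  have hM : ∀ a, M.map (pullFn a) = π a := fun a => by
    ext i j
    show pullFn a (incl R A k (D.P i j)) = D.hom k ((ptEquiv R A k).symm a) i j
    conv_lhs => rw [← (ptEquiv R A k).apply_symm_apply a, pullFn_incl]
    rfl
  obtain ⟨C, _, i, hi, hic, hCs, hCc, hCK, -, ⟨reps, hreps⟩, huniv⟩ := exists_connected_subgroup K
    {f | ∃ L : Matrix (Fin D.d) (Fin D.d) k →ₗ[k] k, J ≤ LinearMap.ker L ∧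
      f = linFn M L - algebraMap k _ (L 1)} (fun a => by
      have e : ∀ L, pullFn a (linFn M L - algebraMap k _ (L 1)) = L (π a - 1) := fun L => by
        rw [map_sub, pullFn_linFn, hM, AlgHom.commutes, map_sub]; rfl
      constructor
      · rintro (hmem : π a - 1 ∈ J) f ⟨L, hL, rfl⟩
        rw [e]
        exact hL hmem
      · intro hf
        show π a - 1 ∈ J
        by_contra hno
        obtain ⟨f, hfx, hf'⟩ := Submodule.exists_dual_map_eq_bot_of_notMem hno inferInstance
        refine hfx ?_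
        rw [← e]
        refine hf _ ⟨f, fun y hy => ?_, rfl⟩
        have : f y ∈ J.map f := ⟨y, hy, rfl⟩
        rw [hf'] at this
        exact LinearMap.mem_ker.mpr ((Submodule.mem_bot k).mp this))
  haveI := hi; haveI := hic; haveI := hCs; haveI := hCc
  haveI : Mono i := Over.mono_of_mono_left i
  haveI : IsAffine C.left := isAffine_of_isAffineHom i.left
  haveI : IsReduced C.left := GrpSchLib.isReduced_of_smooth_field C.hom
  -- normality
  have hnorm : AlgGrp.IsNormalHom i := by
    haveI : IsReduced (fib R A k).left := GrpSchLib.isReduced_of_smooth_field (fib R A k).hom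
    haveI : IsReduced (fib R A k ⊗ C).left := GrpSchLib.isReduced_pullback_of_perfectField (fib R A k).hom C.hom
    haveI : LocallyOfFiniteType (fib R A k ⊗ C).hom :=
      inferInstanceAs (LocallyOfFiniteType (pullback.fst (fib R A k).hom C.hom ≫ (fib R A k).hom))
    obtain ⟨m, hm⟩ := exists_factor_of_points i (fst _ C * (snd _ C ≫ i) * (fst (fib R A k) C)⁻¹) fun p => by
      rw [MonObj.comp_mul, MonObj.comp_mul, GrpObj.comp_inv, ← Category.assoc]
      let g : 𝟙_ (Over (Spec (CommRingCat.of k))) ⟶ fib R A k := toPt _ ≫ p ≫ fst _ C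
      have hg : toUnit (VecGrp.pt k k) ≫ g = p ≫ fst _ C := by
        show _ ≫ toPt _ ≫ p ≫ fst _ C = _
        rw [← Category.assoc, toUnit_toPt, Category.id_comp]
      obtain ⟨w, hw⟩ := huniv C (i ≫ inner g) fun q => by
        rw [← Category.assoc, comp_inner, hg]
        exact hKn _ _ (hCK q)
      refine ⟨(p ≫ snd _ C) ≫ w, ?_⟩
      rw [Category.assoc, hw, ← Category.assoc, comp_inner, hg]
    intro T' g n
    exact ⟨lift g n ≫ m, by
      rw [Category.assoc, hm, MonObj.comp_mul, MonObj.comp_mul, GrpObj.comp_inv, lift_fst, lift_snd_assoc]⟩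
  have hCred : Red.IsReductiveOver k C := ⟨‹_›, ‹_›, ‹_›, fun U _ u _ hu hUs hUc hn hno => by
    haveI := hu; haveI := hUs; haveI := hUc
    exact isTrivialGrp_of_normal_in_normal i hic hnorm hU u hn hno⟩
  haveI : QuasiCompact C.hom := inferInstance
  obtain ⟨S, _, s, hs, -⟩ := exists_maxTorus_all C
  haveI := hs.1; haveI := hs.2.1
  obtain ⟨hS1, hS2, hS3, hS4, hS5⟩ := TorusBasic.torus_props hs.2.2.1
  haveI := hS2; haveI := hS3; haveI := hS4
  have hcentral : ∀ (p : VecGrp.pt k k ⟶ S) g,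
      (ptEquiv R A k).symm (p ≫ s ≫ i) * g = g * (ptEquiv R A k).symm (p ≫ s ≫ i) := fun p g =>
    torus_central D (s ≫ i) hs.2.2.1 (fun p => hJ1 _ (by rw [← Category.assoc]; exact hCK (p ≫ s))) p g
  -- the subgroup is the torus
  have hCS : ∃ z : C ⟶ S, z ≫ s = 𝟙 C := by
    refine ((isCentralizerOf_self_of_reductive s hs hCred).2.2 C (𝟙 C)).mpr fun X' x h => ?_
    have huniv' : (fst C S ≫ 𝟙 C) * (snd C S ≫ s) = (snd C S ≫ s) * (fst C S ≫ 𝟙 C) := by
      haveI : IsReduced S.left := GrpSchLib.isReduced_of_smooth_field S.hom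
      haveI : IsReduced (C ⊗ S).left := GrpSchLib.isReduced_pullback_of_perfectField C.hom S.hom
      haveI : LocallyOfFiniteType (C ⊗ S).hom :=
        inferInstanceAs (LocallyOfFiniteType (pullback.fst C.hom S.hom ≫ C.hom))
      rw [← cancel_mono i]
      refine LineGroups.ext_ev (AlgHom.ext fun f => eq_of_forall_point fun p => ?_)
      rw [pullFn_ev, pullFn_ev]
      congr 1
      congr 1
      rw [MonObj.mul_comp, MonObj.mul_comp, MonObj.comp_mul, MonObj.comp_mul, Category.comp_id]
      apply (ptEquiv R A k).symm.injective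
      rw [_root_.map_mul, _root_.map_mul, Category.assoc, ← Category.assoc p (snd C S) (s ≫ i)]
      exact (hcentral (p ≫ snd C S) _).symm
    have e := congrArg (lift x h ≫ ·) huniv'
    simp only [MonObj.comp_mul, lift_fst_assoc, lift_snd_assoc] at e
    exact e
  obtain ⟨z, hz⟩ := hCS
  have hfixed : ∀ c : VecGrp.pt k k ⟶ C,
      conjHom lam k ((ptEquiv R A k).symm (c ≫ i)) = post (con R k) ((ptEquiv R A k).symm (c ≫ i)) := fun c =>
    conjHom_eq_con_of_commute lam fun t => by
      have h1 := hcentral (c ≫ z) (lamAt lam t)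
      rw [show (c ≫ z) ≫ s ≫ i = c ≫ i by rw [Category.assoc, reassoc_of% hz]] at h1
      exact h1.symm
  -- one point per coset
  let Z := {g : WithConv (A →ₐ[R] k) | Dyn.LimIsOne R A lam k g.ofConv ∧ NilAt D g}
  have hsub : Z ⊆ ⋃ r ∈ reps, {g | g ∈ Z ∧ ∃ c : VecGrp.pt k k ⟶ C, r * (c ≫ i) = ptEquiv R A k g} := by
    rintro g ⟨h1, h2⟩
    obtain ⟨r, hr, c, hc⟩ := hreps (ptEquiv R A k g) (by
      show π _ - 1 ∈ J
      show D.hom k ((ptEquiv R A k).symm _) - 1 ∈ J
      rw [MulEquiv.symm_apply_apply]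
      exact hJ3 g h2)
    exact Set.mem_iUnion₂.mpr ⟨r, hr, ⟨h1, h2⟩, c, hc⟩
  refine (Set.Finite.biUnion reps.finite_toSet fun r _ => Set.Subsingleton.finite ?_).subset hsub
  rintro g ⟨⟨hg, -⟩, c, hc⟩ g' ⟨⟨hg', -⟩, c', hc'⟩
  have e : g⁻¹ * g' = (ptEquiv R A k).symm ((c⁻¹ * c') ≫ i) := by
    apply (ptEquiv R A k).injective
    rw [MulEquiv.apply_symm_apply, _root_.map_mul, map_inv, ← hc, ← hc', MonObj.mul_comp, GrpObj.inv_comp,
      _root_.mul_inv_rev, _root_.mul_assoc, inv_mul_cancel_left]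
  have hlim : Dyn.LimIsOne R A lam k (g⁻¹ * g').ofConv := (mem_limOneSubgroup lam _).mp
    (Subgroup.mul_mem _ (Subgroup.inv_mem _ ((mem_limOneSubgroup lam _).mpr hg)) ((mem_limOneSubgroup lam _).mpr hg'))
  have h1 := limIsOne_fixed lam hlim (e ▸ hfixed (c⁻¹ * c'))
  exact inv_mul_eq_one.mp h1

end Groth.Agent.RedOpenLib
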