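import Groth.Agent.RedOpenLib.Local
import Groth.Agent.MultConjLib.Closed
import Groth.Agent.MultConjLib.Exists
import Groth.Agent.S5255

/-!
# The semisimple locus of a group with a self-centralizing split torus is open
-/

set_option autoImplicit false
set_option linter.style.haveILetI false
set_option backward.isDefEq.respectTransparency false
set_option backward.isDefEq.respectTransparency.types false

universe u

open CategoryTheory CategoryTheory.Limits MonoidalCategory CartesianMonoidalCategory MonObj GrpObj AlgebraicGeometry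
open LaurentPolynomial TensorProduct WithConv
open scoped Groth.Agent.DynLib

namespace Groth.Agent.RedOpenLib

open DynLib DynSm GrpSchLib GrpSchLib.Kunneth GrpSchLib.AffineHopf GModLib TorusBilin

variable {R : Type u} [CommRing R] {A : Type u} [CommRing A] [HopfAlgebra R A] {k : Type u} [Field k] [IsAlgClosed k]
  [Algebra R k]

/-- A connected subgroup inside a closed set quasi-finite at the identity is trivial on points. -/
theorem eq_one_of_quasiFiniteAt (I : Ideal A) [Algebra.FiniteType R (A ⧸ I)]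
    (hqf : ∀ Q : PrimeSpectrum (A ⧸ I), PrimeSpectrum.comap (Ideal.Quotient.mk I) Q = (basePt R A k 1 : PrimeSpectrum A) →
      Algebra.QuasiFiniteAt R Q.asIdeal)
    {U : Over (Spec (CommRingCat.of k))} [GrpObj U] [IsAffine U.left] [Smooth U.hom] [ConnectedSpace U.left]
    (u : U ⟶ fib R A k) [IsMonHom u]
    (hI : ∀ (q : VecGrp.pt k k ⟶ U), ∀ a ∈ I, ((ptEquiv R A k).symm (q ≫ u)).ofConv a = 0)
    (q : VecGrp.pt k k ⟶ U) : q ≫ u = 1 := by
  classical
  let lq : (VecGrp.pt k k ⟶ U) → (A ⧸ I →ₐ[R] k) := fun q =>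
    Ideal.Quotient.liftₐ I ((ptEquiv R A k).symm (q ≫ u)).ofConv (hI q)
  let Pq : (VecGrp.pt k k ⟶ U) → PrimeSpectrum (A ⧸ I) := fun q => ⟨RingHom.ker (lq q).toRingHom, RingHom.ker_isPrime _⟩
  have h1 : (ptEquiv R A k).symm ((1 : VecGrp.pt k k ⟶ U) ≫ u) = 1 := by rw [MonObj.one_comp, _root_.map_one]
  have hP : PrimeSpectrum.comap (Ideal.Quotient.mk I) (Pq 1) = (basePt R A k 1 : PrimeSpectrum A) := by
    refine PrimeSpectrum.ext (Ideal.ext fun a => ?_)
    rw [basePt_asIdeal, ← h1]
    rfl
  let q₀ : Ideal (A ⧸ I) := (Pq 1).asIdeal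
  haveI : q₀.IsPrime := (Pq 1).isPrime
  haveI : Algebra.QuasiFiniteAt R q₀ := hqf (Pq 1) hP
  obtain ⟨s, hs, hsep⟩ := Ideal.exists_not_mem_forall_mem_of_ne_of_liesOver (q₀.under R) q₀
  obtain ⟨s, rfl⟩ := Ideal.Quotient.mk_surjective s
  have hunder : ∀ (f : A ⧸ I →ₐ[R] k) (x : R), f (algebraMap R (A ⧸ I) x) = algebraMap R k x := fun f => f.commutes
  have key : ∀ q, pullFn q (u.left.appTop (incl R A k s)) ≠ 0 → (ptEquiv R A k).symm (q ≫ u) = 1 := by
    intro q hq
    have hval : pullFn q (u.left.appTop (incl R A k s)) = ((ptEquiv R A k).symm (q ≫ u)).ofConv s := by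
      rw [← pullFn_incl, MulEquiv.apply_symm_apply]
      rfl
    rw [hval] at hq
    have heq : (Pq q).asIdeal = q₀ := by
      by_contra hne
      haveI : (Pq q).asIdeal.IsPrime := (Pq q).isPrime
      refine hq (hsep _ ‹_› hne ⟨Ideal.ext fun x => ?_⟩)
      show (lq 1) (algebraMap R (A ⧸ I) x) = 0 ↔ (lq q) (algebraMap R (A ⧸ I) x) = 0
      rw [hunder, hunder]
    apply WithConv.ofConv_injective
    refine AlgHom.ext fun a => ?_
    have hm : Ideal.Quotient.mk I (a - algebraMap R A (Coalgebra.counit a)) ∈ (Pq q).asIdeal := by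
      rw [heq]
      show ((ptEquiv R A k).symm ((1 : VecGrp.pt k k ⟶ U) ≫ u)).ofConv (a - algebraMap R A (Coalgebra.counit a)) = 0
      rw [h1, map_sub, AlgHom.commutes, AlgHom.convOne_apply, sub_self]
    have h2 : ((ptEquiv R A k).symm (q ≫ u)).ofConv (a - algebraMap R A (Coalgebra.counit a)) = 0 := hm
    rw [map_sub, AlgHom.commutes, sub_eq_zero] at h2
    rw [AlgHom.convOne_apply]
    exact h2
  have hne : ((U.left.basicOpen (u.left.appTop (incl R A k s))) : Set U.left).Nonempty := by
    refine ⟨_, (mem_basicOpen_iff (1 : VecGrp.pt k k ⟶ U) _).mpr ?_⟩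
    have hval : pullFn (1 : VecGrp.pt k k ⟶ U) (u.left.appTop (incl R A k s)) =
        ((ptEquiv R A k).symm ((1 : VecGrp.pt k k ⟶ U) ≫ u)).ofConv s := by
      rw [← pullFn_incl, MulEquiv.apply_symm_apply]
      rfl
    rw [hval]
    exact hs
  apply (ptEquiv R A k).symm.injective
  rw [_root_.map_one]
  apply WithConv.ofConv_injective
  refine AlgHom.ext fun a => sub_eq_zero.mp ?_
  have h3 := eq_zero_of_open (U.left.basicOpen (u.left.appTop (incl R A k s))).isOpen hne
    (u.left.appTop (incl R A k a) - algebraMap k (Fn U) ((1 : WithConv (A →ₐ[R] k)).ofConv a))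
    (fun q' hq' => by
      rw [map_sub, AlgHom.commutes, sub_eq_zero]
      show pullFn (q' ≫ u) (incl R A k a) = _
      rw [← key q' ((mem_basicOpen_iff q' _).mp hq'), ← pullFn_incl, MulEquiv.apply_symm_apply]
      rfl) q
  rw [map_sub, AlgHom.commutes] at h3
  rw [← h3, ← pullFn_incl, MulEquiv.apply_symm_apply]
  rfl

/-- Over an algebraically closed field the fibres over the field are connected. -/
theorem connected_residue_fibre {G : Over (Spec (CommRingCat.of k))} [ConnectedSpace G.left]
    (s : ↥(Spec (CommRingCat.of k))) :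
    ConnectedSpace ↥(pullback G.hom ((Spec (CommRingCat.of k)).fromSpecResidueField s)) := by
  haveI : Subsingleton ↥(Spec (CommRingCat.of k)) := inferInstanceAs (Subsingleton (PrimeSpectrum k))
  haveI : IsIso ((Spec (CommRingCat.of k)).fromSpecResidueField s) := by
    haveI : IsClosedImmersion ((Spec (CommRingCat.of k)).fromSpecResidueField s) :=
      .of_isPreimmersion _ (Set.subsingleton_of_subsingleton.isClosed)
    haveI : Surjective ((Spec (CommRingCat.of k)).fromSpecResidueField s) :=
      ⟨fun z => ⟨IsLocalRing.closedPoint _, Subsingleton.elim _ _⟩⟩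
    haveI : IsReduced (Spec (CommRingCat.of k)) := inferInstance
    exact isIso_of_isClosedImmersion_of_surjective _
  let e := (asIso (pullback.fst G.hom ((Spec (CommRingCat.of k)).fromSpecResidueField s))).inv
  exact e.homeomorph.surjective.connectedSpace e.continuous

/-- The points of a normal torus commute with everything, and act trivially by the adjoint representation. -/
theorem normal_torus_props [Algebra.Smooth R A] (D : AdData R A) [ConnectedSpace (fib R A k).left]
    {S : Over (Spec (CommRingCat.of k))} [GrpObj S] (i : S ⟶ fib R A k) [IsMonHom i] [Mono i]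
    (hS : Red.IsTorus S) (hn : AlgGrp.IsNormalHom i) (q : VecGrp.pt k k ⟶ S) :
    (∀ g, (ptEquiv R A k).symm (q ≫ i) * g = g * (ptEquiv R A k).symm (q ≫ i)) ∧
      D.hom k ((ptEquiv R A k).symm (q ≫ i)) = 1 := by
  haveI := smooth_fib (R := R) (A := A) (k := k)
  have hc := Groth.Agent.S5255.result (fib R A k) S (fun s => connected_residue_fibre s) i
    (RankOne.isMultTypeFT_of_isTorus hS) hn
  set c := (ptEquiv R A k).symm (q ≫ i) with hcdef
  refine ⟨fun g => ?_, D.hom_eq_one k c fun x _ => ?_⟩
  · apply (ptEquiv R A k).injective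
    rw [_root_.map_mul, _root_.map_mul, MulEquiv.apply_symm_apply]
    exact (hc _ (ptEquiv R A k g) q).symm
  · have e1 : spMap (TrivSqZeroExt.inlAlgHom k k k) ≫ q ≫ i = toBc (S := k) (post (dinl R k) c).ofConv := by
      rw [← (ptEquiv R A k).apply_symm_apply (q ≫ i), ← hcdef]
      exact spMap_comp_toBc c.ofConv (TrivSqZeroExt.inlAlgHom k k k)
    have e2 := hc _ (toBc (S := k) x.ofConv) (spMap (TrivSqZeroExt.inlAlgHom k k k) ≫ q)
    rw [Category.assoc, e1, toBc_mul, toBc_mul] at e2
    have e3 : x * post (dinl R k) c = post (dinl R k) c * x := WithConv.ofConv_injective (toBc_injective e2)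
    show post (dinl R k) c * x * (post (dinl R k) c)⁻¹ = x
    rw [← e3]
    exact mul_inv_cancel_right (G := WithConv (A →ₐ[R] DualNumber k)) _ _

variable {r : ℕ} (φ : A →ₐc[R] MonoidAlgebra R (Multiplicative (Fin r → ℤ)))
  [IsMonHom (spMap (φ : A →ₐ[R] MonoidAlgebra R (Multiplicative (Fin r → ℤ))))]

/-- The ideal of the points of the torus acting trivially. -/
noncomputable def trivIdeal (D : AdData R A) : Ideal A :=
  RingHom.ker (φ : A →ₐ[R] MonoidAlgebra R (Multiplicative (Fin r → ℤ))).toRingHom ⊔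
    Ideal.span (Set.range fun ij : Fin D.d × Fin D.d => D.P ij.1 ij.2 - (1 : Matrix (Fin D.d) (Fin D.d) A) ij.1 ij.2)

omit [IsAlgClosed k] [IsMonHom (spMap (φ : A →ₐ[R] MonoidAlgebra R (Multiplicative (Fin r → ℤ))))] in
theorem trivIdeal_le (D : AdData R A) (g : WithConv (A →ₐ[R] k)) {x : Fin r → kˣ} (hx : g = tpt φ x)
    (h : D.hom k g = 1) : ∀ a ∈ trivIdeal φ D, g.ofConv a = 0 := by
  have hle : trivIdeal φ D ≤ RingHom.ker g.ofConv.toRingHom := by
    refine sup_le (fun a ha => ?_) (Ideal.span_le.mpr ?_)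
    · show g.ofConv a = 0
      rw [hx]
      show MonoidAlgebra.lift R k _ (charHom x) (φ a) = 0
      rw [show φ a = 0 from ha, map_zero]
    · rintro _ ⟨⟨i, j⟩, rfl⟩
      show g.ofConv (D.P i j - (1 : Matrix (Fin D.d) (Fin D.d) A) i j) = 0
      have h1 := congrArg (fun M : Matrix (Fin D.d) (Fin D.d) k => M i j) h
      simp only [AdData.hom_apply] at h1
      rw [map_sub, h1, Matrix.one_apply, Matrix.one_apply, apply_ite g.ofConv, map_one, map_zero, sub_self]
  exact fun a ha => hle ha

omit [IsAlgClosed k] [IsMonHom (spMap (φ : A →ₐ[R] MonoidAlgebra R (Multiplicative (Fin r → ℤ))))] in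
theorem hom_eq_one_of_trivIdeal (D : AdData R A) (g : WithConv (A →ₐ[R] k))
    (h : ∀ a ∈ trivIdeal φ D, g.ofConv a = 0) : D.hom k g = 1 := by
  ext i j
  have h1 := h _ (Ideal.mem_sup_right (Ideal.subset_span ⟨(i, j), rfl⟩))
  rw [map_sub, sub_eq_zero] at h1
  rw [AdData.hom_apply, h1, Matrix.one_apply, Matrix.one_apply, apply_ite g.ofConv, map_one, map_zero]

/-- Points killing the kernel of the torus are points of the torus. -/
theorem exists_tpt_of_ker (hφ : Function.Surjective φ) (g : WithConv (A →ₐ[R] k))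
    (h : ∀ a, φ a = 0 → g.ofConv a = 0) : ∃ x, g = tpt φ x := by
  let φA : A →ₐ[R] MonoidAlgebra R (Multiplicative (Fin r → ℤ)) := φ
  obtain ⟨f, hf⟩ : ∃ f : MonoidAlgebra R (Multiplicative (Fin r → ℤ)) →ₐ[R] k, f.comp φA = g.ofConv :=
    ⟨(Ideal.Quotient.liftₐ _ g.ofConv h).comp (Ideal.quotientKerAlgEquivOfSurjective (f := φA) hφ).symm.toAlgHom,
      AlgHom.ext fun a => by
        have e : (Ideal.quotientKerAlgEquivOfSurjective (f := φA) hφ).symm (φA a) = Ideal.Quotient.mk _ a := by
          rw [AlgEquiv.symm_apply_eq]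
          rfl
        show Ideal.Quotient.liftₐ _ g.ofConv h ((Ideal.quotientKerAlgEquivOfSurjective (f := φA) hφ).symm (φA a)) = _
        rw [e]
        rfl⟩
  let χ₀ := (MonoidAlgebra.lift R k _).symm f
  obtain ⟨x, hx⟩ := exists_charAlg_eq (MonoidAlgebra.lift k k _ χ₀)
  refine ⟨x, WithConv.ofConv_injective ?_⟩
  show g.ofConv = (MonoidAlgebra.lift R k _ (charHom x)).comp φA
  rw [← (MonoidAlgebra.lift k k _).injective hx, Equiv.apply_symm_apply, hf]

/-- The locus of points of the base with semisimple geometric fibre. -/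
theorem exists_open_semisimple [Algebra.Smooth R A]
    (ht : Red.IsCentralizerOf (spMap (φ : A →ₐ[R] MonoidAlgebra R (Multiplicative (Fin r → ℤ))))
      (spMap (φ : A →ₐ[R] MonoidAlgebra R (Multiplicative (Fin r → ℤ)))))
    (hφ : Function.Surjective φ) :
    ∃ W : Set (PrimeSpectrum R), IsOpen W ∧ ∀ (k : Type u) [Field k] [IsAlgClosed k] [Algebra R k]
      [ConnectedSpace (fib R A k).left],
      ((⟨RingHom.ker (algebraMap R k), RingHom.ker_isPrime _⟩ : PrimeSpectrum R) ∈ W ↔
        Red.IsSemisimpleOver k (fib R A k)) := by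
  classical
  obtain ⟨W₁, hW₁, hred⟩ := exists_open_reductive φ ht hφ
  obtain ⟨D⟩ := exists_adData (R := R) (A := A)
  let J := trivIdeal φ D
  let bad : Set (PrimeSpectrum A) :=
    PrimeSpectrum.comap (Ideal.Quotient.mk J) '' {Q | ¬Algebra.QuasiFiniteAt R Q.asIdeal}
  have hbad : IsClosed bad :=
    (PrimeSpectrum.isClosedEmbedding_comap_of_surjective _ _ Ideal.Quotient.mk_surjective).isClosedMap _
      (isOpen_quasiFiniteAt (R := R) (C := A ⧸ J)).isClosed_compl
  refine ⟨W₁ ∩ PrimeSpectrum.comap (Bialgebra.counitAlgHom R A).toRingHom ⁻¹' badᶜ,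
    hW₁.inter (hbad.isOpen_compl.preimage (PrimeSpectrum.continuous_comap (Bialgebra.counitAlgHom R A).toRingHom)),
    fun k _ _ _ _ => ?_⟩
  simp only [Set.mem_inter_iff, Set.mem_preimage, Set.mem_compl_iff, ← basePt_one, hred k, Red.IsSemisimpleOver,
    and_congr_right_iff]
  intro hredk
  haveI := isAffine_fib (R := R) (A := A) (k := k)
  haveI := smooth_fib (R := R) (A := A) (k := k)
  constructor
  · intro hb S _ i _ hic hn hS
    haveI := hic
    haveI : Mono i := Over.mono_of_mono_left i
    haveI : IsAffine S.left := isAffine_of_isAffineHom i.left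
    obtain ⟨hS1, -, hS3, -⟩ := TorusBasic.torus_props hS
    haveI := hS1; haveI := hS3
    haveI : IsReduced S.left := GrpSchLib.isReduced_of_smooth_field S.hom
    have hpt := eq_one_of_quasiFiniteAt J (fun Q hQ => by_contra fun hno => hb ⟨Q, hno, hQ⟩) i fun q => by
      obtain ⟨h1, h2⟩ := normal_torus_props D i hS hn q
      obtain ⟨x, hx⟩ := exists_eq_tpt φ ht (g := (ptEquiv R A k).symm (q ≫ i)) fun l =>
        conjHom_eq_con_of_commute _ fun t => (h1 _).symm
      exact trivIdeal_le φ D _ hx h2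
    refine isTrivialGrp_of_id_eq_one ((cancel_mono i).mp ?_)
    rw [Category.id_comp, MonObj.one_comp]
    refine LineGroups.ext_ev (AlgHom.ext fun f => eq_of_forall_point fun p => ?_)
    rw [pullFn_ev, pullFn_ev, hpt, MonObj.comp_one]
  · rintro hss ⟨Q, hQ, hQb⟩
    refine hQ ?_
    let π : (VecGrp.pt k k ⟶ fib R A k) →* WithConv (A →ₐ[R] k) := (ptEquiv R A k).symm.toMonoidHom
    let Tx : (Fin r → kˣ) →* WithConv (A →ₐ[R] k) := MonoidHom.mk' (tpt φ) (tpt_mul φ)
    let K : Subgroup (VecGrp.pt k k ⟶ fib R A k) := (Tx.range ⊓ (D.hom k).ker).comap π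
    have hK : ∀ a, a ∈ K ↔ ∀ b ∈ J, ((ptEquiv R A k).symm a).ofConv b = 0 := by
      intro a
      constructor
      · rintro ⟨⟨x, hx⟩, h2⟩
        exact trivIdeal_le φ D _ hx.symm h2
      · intro h
        obtain ⟨x, hx⟩ := exists_tpt_of_ker φ hφ _ fun b hb => h b (Ideal.mem_sup_left hb)
        exact ⟨⟨x, hx.symm⟩, hom_eq_one_of_trivIdeal φ D _ h⟩
    obtain ⟨C, _, i, hi, hic, hCs, hCc, hCK, -, ⟨reps, hreps⟩, -⟩ :=
      exists_connected_subgroup K (incl R A k '' (J : Set A)) fun a => by
        rw [hK, Set.forall_mem_image]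
        refine forall₂_congr fun b _ => ?_
        conv_rhs => rw [← (ptEquiv R A k).apply_symm_apply a, pullFn_incl]
    haveI := hi; haveI := hic; haveI := hCs; haveI := hCc
    haveI : Mono i := Over.mono_of_mono_left i
    haveI : IsAffine C.left := isAffine_of_isAffineHom i.left
    haveI : IsReduced C.left := GrpSchLib.isReduced_of_smooth_field C.hom
    have hno : Red.HasNoSubtorus k C := by
      intro S _ j _ _ hS
      have hcen : ∀ (p : VecGrp.pt k k ⟶ S) g,
          (ptEquiv R A k).symm (p ≫ j ≫ i) * g = g * (ptEquiv R A k).symm (p ≫ j ≫ i) := fun p g =>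
        torus_central D (j ≫ i) hS (fun p => by
          have h2 : D.hom k ((ptEquiv R A k).symm ((p ≫ j) ≫ i)) = 1 := (hCK (p ≫ j)).2
          rw [← Category.assoc, h2, sub_self]
          exact IsNilpotent.zero) p g
      haveI : IsAffineHom (fib R A k).hom := inferInstance
      haveI : IsClosedImmersion (j ≫ i).left := MultConjLib.isClosedImmersion_of_mono
        (MultConjLib.isLocDS_of_multTypeFT (RankOne.isMultTypeFT_of_isTorus hS)) (j ≫ i)
      obtain ⟨hS1, -, hS3, -⟩ := TorusBasic.torus_props hS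
      haveI := hS1; haveI := hS3
      haveI : IsAffine S.left := isAffine_of_isAffineHom (j ≫ i).left
      haveI : IsReduced S.left := GrpSchLib.isReduced_of_smooth_field S.hom
      haveI : IsReduced (fib R A k).left := GrpSchLib.isReduced_of_smooth_field (fib R A k).hom
      haveI : IsReduced (fib R A k ⊗ S).left :=
        GrpSchLib.isReduced_pullback_of_perfectField (fib R A k).hom S.hom
      haveI : LocallyOfFiniteType (fib R A k ⊗ S).hom :=
        inferInstanceAs (LocallyOfFiniteType (pullback.fst (fib R A k).hom S.hom ≫ (fib R A k).hom))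
      have hconj : fst (fib R A k) S * (snd _ S ≫ j ≫ i) * (fst (fib R A k) S)⁻¹ = snd _ S ≫ j ≫ i := by
        refine LineGroups.ext_ev (AlgHom.ext fun f => eq_of_forall_point fun p => ?_)
        rw [pullFn_ev, pullFn_ev]
        congr 1
        congr 1
        rw [MonObj.comp_mul, MonObj.comp_mul, GrpObj.comp_inv, mul_inv_eq_iff_eq_mul]
        apply (ptEquiv R A k).symm.injective
        rw [_root_.map_mul, _root_.map_mul, ← Category.assoc p (snd (fib R A k) S) (j ≫ i)]
        exact (hcen (p ≫ snd _ S) _).symm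
      have hnorm : AlgGrp.IsNormalHom (j ≫ i) := fun T' g n => by
        refine ⟨n, ?_⟩
        have e := congrArg (lift g n ≫ ·) hconj
        simp only [MonObj.comp_mul, GrpObj.comp_inv, ← Category.assoc] at e
        rw [lift_fst, lift_snd] at e
        rw [← Category.assoc, e]
      exact hss S (j ≫ i) ‹_› hnorm hS
    have hCtriv : Red.IsTrivialGrp C := isTrivialGrp_of_fixed φ ht hφ i hno fun l q => by
      obtain ⟨x, hx⟩ := (hCK q).1
      refine conjHom_eq_con_of_commute _ fun t => ?_
      change Tx x = (ptEquiv R A k).symm (q ≫ i) at hx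
      rw [← hx, lamAt_cochar]
      show tpt φ _ * tpt φ x = tpt φ x * tpt φ _
      rw [← tpt_mul, ← tpt_mul, _root_.mul_comm]
    haveI : Finite ((A ⧸ J) →ₐ[R] k) := by
      have hfin : {a | a ∈ K}.Finite := reps.finite_toSet.subset fun a ha => by
        obtain ⟨r', hr', c, hc⟩ := hreps a ha
        rw [eq_one_of_isTrivialGrp hCtriv c, MonObj.one_comp, _root_.mul_one] at hc
        exact hc ▸ hr'
      haveI := hfin.to_subtype
      refine Finite.of_injective (fun χ : (A ⧸ J) →ₐ[R] k =>
        (⟨ptEquiv R A k (toConv (χ.comp (Ideal.Quotient.mkₐ R J))), (hK _).mpr fun b hb => ?_⟩ : {a | a ∈ K})) ?_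
      · rw [MulEquiv.symm_apply_apply]
        show χ (Ideal.Quotient.mk J b) = 0
        rw [Ideal.Quotient.eq_zero_iff_mem.mpr hb, map_zero]
      · intro χ χ' h
        refine Ideal.Quotient.algHom_ext R ?_
        exact congrArg WithConv.ofConv ((ptEquiv R A k).injective (congrArg Subtype.val h))
    refine quasiFiniteAt_of_finite_points (k := k) Q ?_
    have h1 := congrArg (fun P : PrimeSpectrum A => P.asIdeal.comap (algebraMap R A)) hQb
    refine h1.trans (Ideal.ext fun x => ?_)
    rw [Ideal.mem_comap, basePt_asIdeal, AlgHom.commutes]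
    rfl

end Groth.Agent.RedOpenLib
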