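import Groth.Agent.SchTorsor.Props
import Groth.Agent.GrpSchLib.Cartier
import Groth.Agent.FlatMisc.Fibrewise
import Groth.Agent.S16049
import Groth.Prelude.Def_Red

/-!
# A flat group of finite presentation with a smooth fibre is smooth nearby
-/

set_option autoImplicit false
set_option linter.style.haveILetI false
set_option backward.isDefEq.respectTransparency false
set_option backward.isDefEq.respectTransparency.types false

universe u

open CategoryTheory CategoryTheory.Limits MonoidalCategory CartesianMonoidalCategory MonObj GrpObj AlgebraicGeometry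

namespace Groth.Agent.RedOpenLib

/-- A group over an algebraically closed field smooth at the unit is smooth. -/
theorem smooth_of_unit_mem {K : Type u} [Field K] [IsAlgClosed K] (G : Over (Spec (CommRingCat.of K))) [GrpObj G]
    [LocallyOfFiniteType G.hom] [LocallyOfFinitePresentation G.hom]
    (he : η[G].left (IsLocalRing.closedPoint K) ∈ G.hom.smoothLocus) : Smooth G.hom := by
  have := LocallyOfFiniteType.jacobsonSpace G.hom
  rw [← Scheme.Hom.smoothLocus_eq_top_iff, ← TopologicalSpace.Opens.coe_eq_univ, ← not_ne_iff, ← Set.nonempty_compl]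
  intro H
  obtain ⟨x, hx, hxc⟩ :=
    nonempty_inter_closedPoints H G.hom.smoothLocus.2.isClosed_compl.isLocallyClosed
  let x' : 𝟙_ _ ⟶ G := Over.homMk _ ((pointEquivClosedPoint G.hom).symm ⟨x, hxc⟩).2
  let α := (GrpObj.mulRight (A := G) x').symm ≪≫ (GrpObj.mulRight (A := G) η[G])
  have hα : x' ≫ α.hom = η[G] := by
    dsimp only [Iso.trans_hom, Iso.symm_hom, α]
    rw [← Category.assoc, ← Iso.eq_comp_inv]
    simp [comp_lift_assoc]
  have hα' : α.hom.left x = η[G].left (IsLocalRing.closedPoint K) := by
    simpa [x', pointEquivClosedPoint] using congr(($hα).left (IsLocalRing.closedPoint K))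
  have : IsIso α.hom.left := ((Over.forget _).mapIso α).isIso_hom
  rw! [← hα', ← α.hom.left.mem_preimage, Scheme.Hom.preimage_smoothLocus_eq,
    show α.hom.left ≫ G.hom = G.hom from α.hom.w] at he
  exact hx he

variable {X S : Scheme.{u}}

/-- Smoothness after a change of base passes to a further change of base. -/
theorem smooth_snd_comp (f : X ⟶ S) {Y Z : Scheme.{u}} (a : Z ⟶ Y) (b : Y ⟶ S) [Smooth (pullback.snd f b)] :
    Smooth (pullback.snd f (a ≫ b)) := by
  have h₂ := IsPullback.of_hasPullback f b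
  have hw : pullback.fst f (a ≫ b) ≫ f = (pullback.snd f (a ≫ b) ≫ a) ≫ b := by
    rw [pullback.condition, Category.assoc]
  have h₃ : IsPullback (h₂.lift _ _ hw) (pullback.snd f (a ≫ b)) (pullback.snd f b) a :=
    IsPullback.of_right (by rw [h₂.lift_fst]; exact IsPullback.of_hasPullback f (a ≫ b)) (h₂.lift_snd _ _ _) h₂
  exact MorphismProperty.of_isPullback (P := @Smooth) h₃ ‹_›

/-- Smoothness descends from a geometric fibre to the fibre. -/
theorem smooth_residue_of_geom (f : X ⟶ S) (s : S) [Smooth (pullback.snd f (Red.geomPt s))] :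
    Smooth (pullback.snd f (S.fromSpecResidueField s)) := by
  let g : Spec (CommRingCat.of (AlgebraicClosure (S.residueField s))) ⟶ Spec (S.residueField s) :=
    Spec.map (CommRingCat.ofHom (algebraMap (S.residueField s) (AlgebraicClosure (S.residueField s))))
  refine MorphismProperty.of_pullback_snd_of_descendsAlong (Q := @Surjective ⊓ @Flat ⊓ @QuasiCompact)
    (P := @Smooth) (f := pullback.snd f (S.fromSpecResidueField s)) (g := g) ?_ ?_
  · haveI : Flat g := (HasRingHomProperty.Spec_iff (P := @Flat)).mpr (RingHom.flat_algebraMap_iff.mpr inferInstance)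
    haveI : Surjective g := ⟨fun z => ⟨IsLocalRing.closedPoint _,
      Subsingleton.elim (α := PrimeSpectrum (S.residueField s)) _ _⟩⟩
    exact ⟨⟨inferInstance, inferInstance⟩, inferInstance⟩
  · rw [← pullbackLeftPullbackSndIso_hom_snd f (S.fromSpecResidueField s) g]
    haveI : Smooth (pullback.snd f (g ≫ S.fromSpecResidueField s)) := ‹Smooth (pullback.snd f (Red.geomPt s))›
    infer_instance

/-- A flat group of finite presentation is smooth near a point with smooth geometric fibre. -/
theorem exists_smooth_nbhd (G : Over S) [GrpObj G] [Flat G.hom] [LocallyOfFinitePresentation G.hom] (s₀ : S)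
    [Smooth (pullback.snd G.hom (Red.geomPt s₀))] :
    ∃ U : S.Opens, s₀ ∈ U ∧ Smooth (Red.bc U.ι G).hom := by
  have key : ∀ s : S, Smooth (pullback.snd G.hom (Red.geomPt s)) → ∀ x, G.hom x = s → x ∈ G.hom.smoothLocus := by
    intro s hs x hx
    haveI := hs
    haveI := smooth_residue_of_geom G.hom s
    have hsm : Smooth (pullback.snd G.hom ((𝟙 S : S ⟶ S).fiberι s)) := by
      have e : (𝟙 S : S ⟶ S).fiberι s = pullback.snd (𝟙 S) (S.fromSpecResidueField s) ≫ S.fromSpecResidueField s :=
        (Category.comp_id _).symm.trans pullback.condition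
      rw [e]
      exact smooth_snd_comp G.hom _ _
    obtain ⟨V, hV, hVs⟩ := Groth.Agent.S16049.result (𝟙 S) G.hom G.hom (Category.comp_id _) s hsm
    obtain ⟨x', hx'⟩ : ∃ x' : (V : Scheme.{u}), V.ι x' = x := ⟨⟨x, hV x hx⟩, rfl⟩
    rw [← hx', ← Scheme.Hom.mem_preimage, Scheme.Hom.preimage_smoothLocus_eq, Scheme.Hom.smoothLocus_eq_top]
    trivial
  let e := η[G].left
  let U : S.Opens := e ⁻¹ᵁ G.hom.smoothLocus
  have he : ∀ s, G.hom (e s) = s := fun s => by
    rw [← Scheme.Hom.comp_apply, show e ≫ G.hom = 𝟙 S from Over.w η[G]]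
    rfl
  have hsU : ∀ s ∈ U, Smooth (pullback.snd G.hom (Red.geomPt s)) := by
    intro s hs
    let Xb := Red.bc (Red.geomPt s) G
    haveI : LocallyOfFinitePresentation Xb.hom :=
      inferInstanceAs (LocallyOfFinitePresentation (pullback.snd G.hom (Red.geomPt s)))
    haveI : LocallyOfFiniteType Xb.hom := inferInstance
    refine smooth_of_unit_mem Xb ?_
    let V := G.hom.smoothLocus
    haveI : Smooth (V.ι ≫ G.hom) := by
      rw [← Scheme.Hom.smoothLocus_eq_top_iff, ← Scheme.Hom.preimage_smoothLocus_eq]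
      exact V.ι_preimage_self
    let q := pullback.fst (pullback.fst G.hom (Red.geomPt s)) V.ι
    have hq : IsPullback (pullback.snd (pullback.fst G.hom (Red.geomPt s)) V.ι) (q ≫ pullback.snd G.hom (Red.geomPt s))
        (V.ι ≫ G.hom) (Red.geomPt s) :=
      (IsPullback.of_hasPullback (pullback.fst G.hom (Red.geomPt s)) V.ι).flip.paste_vert
        (IsPullback.of_hasPullback G.hom (Red.geomPt s))
    haveI : Smooth (q ≫ Xb.hom) := MorphismProperty.of_isPullback (P := @Smooth) hq ‹_›
    have hmem : (pullback.fst G.hom (Red.geomPt s)) (η[Xb].left (IsLocalRing.closedPoint _)) ∈ V := by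
      have h1 : η[Xb].left ≫ pullback.fst G.hom (Red.geomPt s) = Red.geomPt s ≫ e := by
        have h2 := congrArg (fun f => f.left ≫ pullback.fst G.hom (Red.geomPt s))
          (show η[Xb] = _ from Functor.obj.η_def (F := Over.pullback (Red.geomPt s)) (X := G))
        refine h2.trans ?_
        simp [e]
      show (η[Xb].left ≫ pullback.fst G.hom (Red.geomPt s)) (IsLocalRing.closedPoint _) ∈ V
      rw [h1, Scheme.Hom.comp_apply]
      have h3 : (Red.geomPt s) (IsLocalRing.closedPoint _) = s := Scheme.fromSpecResidueField_apply s _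
      exact (congrArg e h3).symm ▸ hs
    obtain ⟨z, hz, -⟩ := Scheme.Pullback.exists_preimage_pullback (f := pullback.fst G.hom (Red.geomPt s)) (g := V.ι)
      (η[Xb].left (IsLocalRing.closedPoint _)) ⟨_, hmem⟩ rfl
    rw [← hz]
    show z ∈ q ⁻¹ᵁ Xb.hom.smoothLocus
    rw [Scheme.Hom.preimage_smoothLocus_eq, Scheme.Hom.smoothLocus_eq_top]
    trivial
  refine ⟨U, key s₀ ‹_› _ (he s₀), ?_⟩
  let p := pullback.fst G.hom U.ι
  have hpz : ∀ z, G.hom (p z) = U.ι ((pullback.snd G.hom U.ι) z) := fun z => by
    rw [← Scheme.Hom.comp_apply, ← Scheme.Hom.comp_apply, pullback.condition]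
  have hp : ⊤ ≤ p ⁻¹ᵁ G.hom.smoothLocus := fun z _ => key _ (hsU _ ((pullback.snd G.hom U.ι) z).2) (p z) (hpz z)
  rw [Scheme.Hom.preimage_smoothLocus_eq, top_le_iff, Scheme.Hom.smoothLocus_eq_top_iff, show p ≫ G.hom =
    pullback.snd G.hom U.ι ≫ U.ι from pullback.condition] at hp
  haveI := hp
  have hsq : IsPullback (𝟙 (pullback G.hom U.ι)) (pullback.snd G.hom U.ι) (pullback.snd G.hom U.ι ≫ U.ι) U.ι :=
    IsPullback.of_horiz_isIso_mono ⟨by simp⟩
  exact MorphismProperty.of_isPullback (P := @Smooth) hsq hp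

end Groth.Agent.RedOpenLib
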