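import Groth.Agent.RedOpenLib.ReductiveFinite
import Groth.Agent.GModLib.CentreWeights
import Groth.Agent.TorusBilin.Chars

/-!
# Points fixed by all cocharacters of a self-centralizing split torus
-/

set_option autoImplicit false
set_option linter.style.haveILetI false
set_option backward.isDefEq.respectTransparency false
set_option backward.isDefEq.respectTransparency.types false

universe u

open CategoryTheory CategoryTheory.Limits MonoidalCategory CartesianMonoidalCategory MonObj GrpObj AlgebraicGeometry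
open LaurentPolynomial TensorProduct WithConv
open scoped Groth.Agent.DynLib

namespace Groth.Agent.RedOpenLib

open DynLib DynSm GrpSchLib GrpSchLib.Kunneth GrpSchLib.AffineHopf GModLib TorusBilin

variable {R : Type u} [CommRing R] {A : Type u} [CommRing A] [HopfAlgebra R A] {r : ℕ}
  (φ : A →ₐc[R] MonoidAlgebra R (Multiplicative (Fin r → ℤ))) {k : Type u} [Field k] [Algebra R k]

/-- The cocharacter along the coordinate `l`. -/
noncomputable def cochar (l : Fin r) : A →ₐc[R] R[T;T⁻¹] :=
  (((AddMonoidAlgebra.toMultiplicativeBialgEquiv R R ℤ).symm : _ →ₐc[R] R[T;T⁻¹]).comp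
    (MonoidAlgebra.mapDomainBialgHom R
      (AddMonoidHom.toMultiplicative (Pi.evalAddMonoidHom (fun _ : Fin r => ℤ) l)))).comp φ

/-- The point of the group given by units. -/
noncomputable def tpt (x : Fin r → kˣ) : WithConv (A →ₐ[R] k) :=
  toConv ((MonoidAlgebra.lift R k _ (charHom x)).comp (φ : A →ₐ[R] MonoidAlgebra R (Multiplicative (Fin r → ℤ))))

theorem spMap_tpt (x : Fin r → kˣ) :
    spMap (tpt φ x).ofConv = CentreWeights.pt R (charHom x) ≫
      spMap (φ : A →ₐ[R] MonoidAlgebra R (Multiplicative (Fin r → ℤ))) :=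
  (spMap_comp _ _).symm

variable [IsMonHom (spMap (φ : A →ₐ[R] MonoidAlgebra R (Multiplicative (Fin r → ℤ))))]

theorem tpt_mul (x y : Fin r → kˣ) : tpt φ (x * y) = tpt φ x * tpt φ y := by
  have e : (charHom (x * y) : Multiplicative (Fin r → ℤ) →* k) = charHom x * charHom y := by
    refine MonoidHom.ext fun m => ?_
    show ((∏ i, (x i * y i) ^ m.toAdd i : kˣ) : k) = ((∏ i, x i ^ m.toAdd i : kˣ) : k) * ((∏ i, y i ^ m.toAdd i : kˣ) : k)
    rw [← Units.val_mul, ← Finset.prod_mul_distrib]
    simp only [mul_zpow]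
  apply WithConv.ofConv_injective
  refine spMap_injective ?_
  rw [spMap_tpt, e, CentreWeights.pt_mul, MonObj.mul_comp, ← spMap_tpt, ← spMap_tpt, spMap_mul]

theorem tpt_one : tpt φ (1 : Fin r → kˣ) = 1 := by
  have h := tpt_mul φ (1 : Fin r → kˣ) 1
  rw [_root_.one_mul] at h
  exact left_eq_mul.mp h

omit [IsMonHom (spMap (φ : A →ₐ[R] MonoidAlgebra R (Multiplicative (Fin r → ℤ))))] in
theorem lamAt_cochar (l : Fin r) (s : kˣ) : lamAt (cochar φ l) s = tpt φ (Pi.mulSingle l s) := by
  apply WithConv.ofConv_injective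
  refine AlgHom.ext fun a => ?_
  show evT R s (AddMonoidAlgebra.mapAlgHom ℤ (Algebra.ofId R k) ((AddMonoidAlgebra.toMultiplicativeBialgEquiv R R ℤ).symm
    (MonoidAlgebra.mapDomainBialgHom R _ (φ a)))) = MonoidAlgebra.lift R k _ (charHom (Pi.mulSingle l s)) (φ a)
  generalize φ a = p
  induction p using MonoidAlgebra.induction_linear with
  | zero => simp
  | add p q hp hq => simp only [map_add, hp, hq]
  | single m c =>
    rw [MonoidAlgebra.mapDomainBialgHom_single]
    have e : (AddMonoidAlgebra.toMultiplicativeBialgEquiv R R ℤ).symm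
        (MonoidAlgebra.single (AddMonoidHom.toMultiplicative (Pi.evalAddMonoidHom (fun _ : Fin r => ℤ) l) m) c) =
        AddMonoidAlgebra.single (m.toAdd l) c := by
      refine EquivLike.injective (AddMonoidAlgebra.toMultiplicativeBialgEquiv R R ℤ) ?_
      rw [BialgEquiv.apply_symm_apply, AddMonoidAlgebra.toMultiplicativeBialgEquiv_single]
      rfl
    rw [e, mapAlgHom_single', evT_single, MonoidAlgebra.lift_single, Algebra.smul_def]
    congr 1
    show ((s ^ m.toAdd l : kˣ) : k) = ((∏ i, (Pi.mulSingle l s : Fin r → kˣ) i ^ m.toAdd i : kˣ) : k)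
    rw [Finset.prod_eq_single l (fun i _ hi => by rw [Pi.mulSingle_eq_of_ne hi, one_zpow])
      (fun hl => absurd (Finset.mem_univ l) hl), Pi.mulSingle_eq_same]

/-- A point commuting with the cocharacters commutes with all points of the torus. -/
theorem commute_tpt {g : WithConv (A →ₐ[R] k)}
    (h : ∀ l, conjHom (cochar φ l) k g = post (con R k) g) (x : Fin r → kˣ) : tpt φ x * g = g * tpt φ x := by
  let Ψ : (Fin r → kˣ) →* WithConv (A →ₐ[R] k) := MonoidHom.mk' (tpt φ) (tpt_mul φ)
  let H : Subgroup (Fin r → kˣ) := (Subgroup.centralizer {g}).comap Ψ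
  have hH : ∀ y, y ∈ H ↔ tpt φ y * g = g * tpt φ y := fun y => by
    simp only [H, Subgroup.mem_comap, Subgroup.mem_centralizer_singleton_iff]
    rfl
  rw [← hH, ← Finset.univ_prod_mulSingle x]
  refine Subgroup.prod_mem _ fun l _ => (hH _).mpr ?_
  rw [← lamAt_cochar]
  have h1 := post_evT_conjHom (cochar φ l) (x l) g
  have h2 : post (evT R (x l)) (post (con R k) g) = g := by
    apply WithConv.ofConv_injective
    refine AlgHom.ext fun a => ?_
    exact evT_con (R := R) (x l) (g.ofConv a)
  rw [h l, h2] at h1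
  exact (mul_inv_eq_iff_eq_mul.mp h1.symm)

omit [IsMonHom (spMap (φ : A →ₐ[R] MonoidAlgebra R (Multiplicative (Fin r → ℤ))))] in
/-- A point commuting with all points of the torus has no weights. -/
theorem weights_eq_zero [IsAlgClosed k] [IsMonHom (spMap (φ : A →ₐ[R] MonoidAlgebra R (Multiplicative (Fin r → ℤ))))]
    {ρ : A →ₐ[R] MonoidAlgebra A (Multiplicative (Fin r → ℤ))}
    (hρ : ∀ (R' : Type u) [CommRing R'] [Algebra R R'] (χ : Multiplicative (Fin r → ℤ) →* R') (x : A →ₐ[R] R'),
      (CentreWeights.pt R χ ≫ spMap (φ : A →ₐ[R] MonoidAlgebra R (Multiplicative (Fin r → ℤ)))) * spMap x *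
        (CentreWeights.pt R χ ≫ spMap (φ : A →ₐ[R] MonoidAlgebra R (Multiplicative (Fin r → ℤ))))⁻¹ =
          spMap ((CentreWeights.ev χ x).comp ρ))
    {g : WithConv (A →ₐ[R] k)} (h : ∀ x, tpt φ x * g = g * tpt φ x) (a : A) (m : Multiplicative (Fin r → ℤ))
    (hm : m ≠ 1) : g.ofConv ((ρ a).coeff m) = 0 := by
  classical
  set F : TorusBilin.Coord k r := MonoidAlgebra.mapAlgHom _ g.ofConv (ρ a) with hF
  have key : ∀ x : Fin r → kˣ, charAlg x F = g.ofConv a := by
    intro x
    have e1 : spMap (tpt φ x).ofConv * spMap g.ofConv = spMap g.ofConv * spMap (tpt φ x).ofConv := by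
      rw [spMap_mul, spMap_mul]
      show spMap (tpt φ x * g).ofConv = spMap (g * tpt φ x).ofConv
      rw [h]
    have e2 : spMap ((CentreWeights.ev (charHom x) g.ofConv).comp ρ) = spMap g.ofConv := by
      rw [← hρ, ← spMap_tpt, mul_inv_eq_iff_eq_mul]
      exact e1
    rw [← DFunLike.congr_fun (spMap_injective e2) a, hF]
    show charAlg x (MonoidAlgebra.mapAlgHom _ g.ofConv (ρ a)) = CentreWeights.ev (charHom x) g.ofConv (ρ a)
    generalize ρ a = p
    induction p using MonoidAlgebra.induction_linear with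
    | zero => simp
    | add p q hp hq => simp only [map_add, hp, hq]
    | single n b =>
      rw [CentreWeights.ev_single, MonoidAlgebra.mapAlgHom_single, charAlg, MonoidAlgebra.lift_single, smul_eq_mul]
  have h0 : F - MonoidAlgebra.single 1 (g.ofConv a) = 0 := eq_zero_of_torsion _ fun x _ => by
    rw [map_sub, key, charAlg, MonoidAlgebra.lift_single, map_one, smul_eq_mul, _root_.mul_one, sub_self]
  have h1 := congrArg (fun p : TorusBilin.Coord k r => p.coeff m) h0
  simp [hF, Finsupp.single_eq_of_ne hm] at h1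
  exact h1

variable [IsAlgClosed k]

/-- A point fixed by all cocharacters of a self-centralizing torus lies in it. -/
theorem exists_eq_tpt
    (ht : Red.IsCentralizerOf (spMap (φ : A →ₐ[R] MonoidAlgebra R (Multiplicative (Fin r → ℤ))))
      (spMap (φ : A →ₐ[R] MonoidAlgebra R (Multiplicative (Fin r → ℤ)))))
    {g : WithConv (A →ₐ[R] k)} (h : ∀ l, conjHom (cochar φ l) k g = post (con R k) g) : ∃ x, g = tpt φ x := by
  classical
  obtain ⟨ρ, hρ⟩ := CentreWeights.exists_conj (spMap (φ : A →ₐ[R] MonoidAlgebra R (Multiplicative (Fin r → ℤ))))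
  have hw := weights_eq_zero φ hρ (commute_tpt φ h)
  let T := sp R (MonoidAlgebra R (Multiplicative (Fin r → ℤ)))
  let t : T ⟶ sp R A := spMap (φ : A →ₐ[R] MonoidAlgebra R (Multiplicative (Fin r → ℤ)))
  let X := sp R k ⊗ T
  haveI : IsAffine (sp R k).left := isAffine_Spec _
  haveI : IsAffine T.left := isAffine_Spec _
  haveI : IsAffine X.left := inferInstanceAs (IsAffine (pullback (sp R k).hom T.hom))
  obtain ⟨W, _, _, e, he⟩ := exists_sp_iso X
  haveI := he
  obtain ⟨a, ha⟩ := exists_eq_spMap (R := R) (A := W) (B := A) (e ≫ fst _ _ ≫ spMap g.ofConv)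
  obtain ⟨b, hb⟩ := exists_eq_spMap (R := R) (A := W) (B := MonoidAlgebra R (Multiplicative (Fin r → ℤ))) (e ≫ snd _ _)
  let p : k →+* W := (Spec.preimage ((e ≫ fst (sp R k) T).left)).hom
  have hp : ∀ c, a c = p (g.ofConv c) := by
    intro c
    have h1 := congrArg (fun f : sp R W ⟶ sp R A => f.left) ha
    change (e ≫ fst (sp R k) T).left ≫ Spec.map (CommRingCat.ofHom g.ofConv.toRingHom) =
      Spec.map (CommRingCat.ofHom a.toRingHom) at h1
    rw [← Spec.map_preimage ((e ≫ fst (sp R k) T).left), ← Spec.map_comp] at h1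
    exact (RingHom.congr_fun (congrArg CommRingCat.Hom.hom (Spec.map_injective h1)) c).symm
  let χ := (MonoidAlgebra.lift R W _).symm b
  have hχ : CentreWeights.pt R χ = e ≫ snd _ _ := by
    rw [hb, CentreWeights.pt, Equiv.apply_symm_apply]
  have hcomm : (fst (sp R k) T ≫ spMap g.ofConv) * (snd _ T ≫ t) = (snd _ T ≫ t) * (fst _ _ ≫ spMap g.ofConv) := by
    rw [← cancel_epi e, MonObj.comp_mul, MonObj.comp_mul, ← Category.assoc e (snd _ _), ← hχ, ha]
    refine (CentreWeights.commute_of hρ χ a fun c m => ?_).symm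
    by_cases hm : m = 1
    · rw [hm, map_one χ, _root_.mul_one]
    · rw [hp, hw c m hm, map_zero, zero_mul]
  obtain ⟨z, hz⟩ := (ht.2.2 (sp R k) (spMap g.ofConv)).mpr fun X' x h' => by
    have e' := congrArg (lift x h' ≫ ·) hcomm
    simp only [MonObj.comp_mul, ← Category.assoc] at e'
    rw [lift_fst, lift_snd] at e'
    exact e'
  obtain ⟨f, hf⟩ := exists_eq_spMap (R := R) (A := k) (B := MonoidAlgebra R (Multiplicative (Fin r → ℤ))) z
  let χ₀ := (MonoidAlgebra.lift R k _).symm f
  obtain ⟨x, hx⟩ := exists_charAlg_eq (MonoidAlgebra.lift k k _ χ₀)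
  refine ⟨x, ?_⟩
  apply WithConv.ofConv_injective
  refine spMap_injective ?_
  rw [← hz, hf, spMap_tpt, CentreWeights.pt]
  congr 1
  congr 1
  rw [← (MonoidAlgebra.lift k k _).injective hx, Equiv.apply_symm_apply]

/-- A connected group without subtori fixed by all cocharacters is trivial. -/
theorem isTrivialGrp_of_fixed
    (ht : Red.IsCentralizerOf (spMap (φ : A →ₐ[R] MonoidAlgebra R (Multiplicative (Fin r → ℤ))))
      (spMap (φ : A →ₐ[R] MonoidAlgebra R (Multiplicative (Fin r → ℤ)))))
    (hφ : Function.Surjective φ) [Algebra.Smooth R A]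
    {U : Over (Spec (CommRingCat.of k))} [GrpObj U] [IsAffine U.left] [Smooth U.hom] [ConnectedSpace U.left]
    (u : U ⟶ fib R A k) [IsMonHom u] [Mono u] (hno : Red.HasNoSubtorus k U)
    (h : ∀ (l : Fin r) (q : VecGrp.pt k k ⟶ U),
      conjHom (cochar φ l) k ((ptEquiv R A k).symm (q ≫ u)) = post (con R k) ((ptEquiv R A k).symm (q ≫ u))) :
    Red.IsTrivialGrp U := by
  haveI : IsReduced U.left := GrpSchLib.isReduced_of_smooth_field U.hom
  haveI := isAffine_fib (R := R) (A := A) (k := k)
  have hx : ∀ q : VecGrp.pt k k ⟶ U, ∃ x, (ptEquiv R A k).symm (q ≫ u) = tpt φ x := fun q =>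
    exists_eq_tpt φ ht fun l => h l q
  choose x hx using hx
  have hval : ∀ (m : Multiplicative (Fin r → ℤ)) (q : VecGrp.pt k k ⟶ U), charHom (x q) m = 1 := by
    intro m
    obtain ⟨a, ha⟩ := hφ (MonoidAlgebra.single m 1)
    let ω : Fn U := (u.left.appTop) (incl R A k a)
    have hω : ∀ q : VecGrp.pt k k ⟶ U, pullFn q ω = charHom (x q) m := by
      intro q
      have h1 : pullFn q ω = pullFn (q ≫ u) (incl R A k a) := rfl
      have h2 : ((tpt φ (x q)).ofConv) a = charHom (x q) m := by
        show MonoidAlgebra.lift R k _ (charHom (x q)) (φ a) = _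
        rw [ha, MonoidAlgebra.lift_single, one_smul]
      rw [h1, ← h2, ← hx, ← pullFn_incl, MulEquiv.apply_symm_apply]
    have hmul : ∀ q q' : VecGrp.pt k k ⟶ U, tpt φ (x (q * q')) = tpt φ (x q) * tpt φ (x q') := fun q q' => by
      rw [← hx, ← hx, ← hx, MonObj.mul_comp, _root_.map_mul]
    have hχ : IsChar ω := by
      constructor
      · intro q q'
        have h2 : ∀ y : Fin r → kˣ, (tpt φ y).ofConv a = charHom y m := fun y => by
          show MonoidAlgebra.lift R k _ (charHom y) (φ a) = _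
          rw [ha, MonoidAlgebra.lift_single, one_smul]
        rw [hω, hω, hω, ← h2, hmul, ← tpt_mul, h2]
        show ((∏ i, (x q i * x q' i) ^ m.toAdd i : kˣ) : k) = ((∏ i, x q i ^ m.toAdd i : kˣ) : k) *
          ((∏ i, x q' i ^ m.toAdd i : kˣ) : k)
        rw [← Units.val_mul, ← Finset.prod_mul_distrib]
        simp only [mul_zpow]
      · have h2 : (tpt φ (x 1)).ofConv a = charHom (x 1) m := by
          show MonoidAlgebra.lift R k _ (charHom (x 1)) (φ a) = _
          rw [ha, MonoidAlgebra.lift_single, one_smul]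
        have h3 : (tpt φ (1 : Fin r → kˣ)).ofConv a = charHom (1 : Fin r → kˣ) m := by
          show MonoidAlgebra.lift R k _ (charHom 1) (φ a) = _
          rw [ha, MonoidAlgebra.lift_single, one_smul]
        rw [hω, ← h2, ← hx, MonObj.one_comp, _root_.map_one, ← tpt_one φ, h3]
        show ((∏ i, (1 : kˣ) ^ m.toAdd i : kˣ) : k) = 1
        simp
    intro q
    rw [← hω]
    exact char_eq_one_of_hasNoSubtorus hno hχ q
  have hpt : ∀ q : VecGrp.pt k k ⟶ U, q ≫ u = 1 := by
    intro q
    have hx1 : tpt φ (x q) = 1 := by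
      rw [← tpt_one φ]
      apply WithConv.ofConv_injective
      refine AlgHom.ext fun a => ?_
      show MonoidAlgebra.lift R k _ (charHom (x q)) (φ a) = MonoidAlgebra.lift R k _ (charHom 1) (φ a)
      congr 2
      refine MonoidHom.ext fun m => ?_
      rw [hval]
      show 1 = ((∏ i, (1 : kˣ) ^ m.toAdd i : kˣ) : k)
      simp
    apply (ptEquiv R A k).symm.injective
    rw [hx, hx1, _root_.map_one]
  refine isTrivialGrp_of_id_eq_one ((cancel_mono u).mp ?_)
  rw [Category.id_comp, MonObj.one_comp]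
  refine LineGroups.ext_ev (AlgHom.ext fun f => eq_of_forall_point fun p => ?_)
  rw [pullFn_ev, pullFn_ev, hpt, MonObj.comp_one]

end Groth.Agent.RedOpenLib
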